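import Cfsg.Agent.F42.AllSys_m3
import Cfsg.Agent.H657.IBrBlock
import Cfsg.Agent.H212.BR.Gen_m3
import Cfsg.Agent.H666.TraceZero
import Cfsg.Agent.H887.BR.CRG
import Cfsg.Agent.FourTwo.Perf
import Cfsg.Agent.S1054
import Cfsg.Agent.FastGrp
import Cfsg.Agent.Prune
set_option linter.all false
prune_inst 0x7ffdfdffbbe8f9dfffff7e3faefedffdffef2fffeffff9fbffe4e19f8bdfcb0ecff5fbafefea53fe1ff6e21498fc7bd3ffffffffea6bfc7ffffd5ff4dffbffdffdf7bd08519e98b41fbc2fffe3f07f8e7f3fffffffffffffffffffffffffffbeffbfffffffff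
open scoped Cfsg.Agent.FastGrp

-- part: H326/F4C/Tr
section
/-!
# Conjugation invariants of words of `F₄(2)` (helper326)

* `tJ`, `tI` : the traces on the quotient by the short ideal and on the short ideal, `tJ_conj`, `tI_conj`;
* `iw w` : the ranks of `g - 1`, of `g³ - 1` and the two traces, computed from a word;
* `sep_iw` : words with different invariants are not conjugate;
* `wd_eq_one_of` : a word is trivial (kernel check of the packed matrix).
-/

set_option autoImplicit false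
set_option maxRecDepth 10000

namespace Cfsg.Agent.H326.F4C

open Cfsg.Lie Cfsg.Agent.ChevalleyStructure.TwF4.Rel Cfsg.Agent.ChevalleyStructure.TwF4.Tables
open Cfsg.Agent.ChevalleyStructure.TwF4.Bits
open Cfsg.Agent.FourTwo.Base Cfsg.Agent.FourTwo.RankInv Cfsg.Agent.FourTwo.ClassSep

section abs

variable {n : Type*} [Fintype n] [DecidableEq n] {R : Type*} [CommRing R]

theorem trace_abs {D Y Yi G : Matrix n n R} (h1 : D * Y = D * Y * D) (h2 : D * (G * Yi) = D * (G * Yi) * D)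
    (h3 : Yi * Y = 1) : (D * (Y * G * Yi)).trace = (D * G).trace := by
  have e1 : D * (Y * G * Yi) = (D * Y) * (D * (G * Yi)) := by
    calc D * (Y * G * Yi) = D * Y * (G * Yi) := by simp only [Matrix.mul_assoc]
      _ = D * Y * D * (G * Yi) := by rw [← h1]
      _ = (D * Y) * (D * (G * Yi)) := by simp only [Matrix.mul_assoc]
  have e2 : (D * (G * Yi)) * (D * Y) = D * G := by
    calc (D * (G * Yi)) * (D * Y) = D * (G * Yi) * D * Y := by simp only [Matrix.mul_assoc]
      _ = D * (G * Yi) * Y := by rw [← h2]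
      _ = D * G * (Yi * Y) := by simp only [Matrix.mul_assoc]
      _ = D * G := by rw [h3, Matrix.mul_one]
  rw [e1, Matrix.trace_mul_comm, e2]

theorem trace_conj_abs {Y Yi G : Matrix n n R} (h3 : Yi * Y = 1) : (Y * G * Yi).trace = G.trace := by
  rw [Matrix.trace_mul_comm, ← Matrix.mul_assoc, h3, Matrix.one_mul]

theorem conj3 {H : Type*} [Group H] (y g : H) : (y * g * y⁻¹) ^ 3 = y * g ^ 3 * y⁻¹ := conj_pow

theorem cube {H : Type*} [Group H] (g : H) : g ^ 3 = g * (g * g) := by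
  rw [pow_succ', pow_two]

end abs

/-- trace on the quotient by the short ideal -/
noncomputable def tJ (g : GL chevF4.Idx (ZMod 2)) : ZMod 2 :=
  (dg (ZMod 2) maskJ * (g : Matrix chevF4.Idx chevF4.Idx (ZMod 2))).trace

/-- trace on the short ideal -/
noncomputable def tI (g : GL chevF4.Idx (ZMod 2)) : ZMod 2 :=
  (dg (ZMod 2) maskI * (g : Matrix chevF4.Idx chevF4.Idx (ZMod 2))).trace

theorem coe_conj (y g : GL chevF4.Idx (ZMod 2)) :
    ((y * g * y⁻¹ : GL chevF4.Idx (ZMod 2)) : Matrix chevF4.Idx chevF4.Idx (ZMod 2)) =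
      (y : Matrix chevF4.Idx chevF4.Idx (ZMod 2)) * (g : Matrix chevF4.Idx chevF4.Idx (ZMod 2)) *
        ((y⁻¹ : GL chevF4.Idx (ZMod 2)) : Matrix chevF4.Idx chevF4.Idx (ZMod 2)) := by
  rw [Units.val_mul, Units.val_mul]

theorem coe_inv_mul (y : GL chevF4.Idx (ZMod 2)) :
    ((y⁻¹ : GL chevF4.Idx (ZMod 2)) : Matrix chevF4.Idx chevF4.Idx (ZMod 2)) *
      (y : Matrix chevF4.Idx chevF4.Idx (ZMod 2)) = 1 := by
  rw [← Units.val_mul, inv_mul_cancel, Units.val_one]

theorem tJ_conj {g y : GL chevF4.Idx (ZMod 2)} (hg : g ∈ pres (ZMod 2)) (hy : y ∈ pres (ZMod 2)) :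
    tJ (y * g * y⁻¹) = tJ g := by
  unfold tJ
  rw [coe_conj]
  refine trace_abs (dgJ_mul hy) ?_ (coe_inv_mul y)
  have h3 := dgJ_mul ((pres (ZMod 2)).mul_mem hg ((pres (ZMod 2)).inv_mem hy))
  rw [Units.val_mul] at h3
  exact h3

theorem tJ_add_tI (g : GL chevF4.Idx (ZMod 2)) :
    tJ g + tI g = (g : Matrix chevF4.Idx chevF4.Idx (ZMod 2)).trace := by
  unfold tJ tI
  rw [← Matrix.trace_add, ← Matrix.add_mul, dg_add, Matrix.one_mul]

theorem tI_conj {g y : GL chevF4.Idx (ZMod 2)} (hg : g ∈ pres (ZMod 2)) (hy : y ∈ pres (ZMod 2)) :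
    tI (y * g * y⁻¹) = tI g := by
  have h1 := tJ_add_tI (y * g * y⁻¹)
  have h2 := tJ_add_tI g
  rw [coe_conj, trace_conj_abs (coe_inv_mul y), tJ_conj hg hy, ← h2] at h1
  exact add_left_cancel h1

/-! ### the computation from a packed matrix -/

/-- parity of the diagonal bits -/
def trB (m M : ℕ) (n : ℕ) : Bool := Nat.rec false (fun k ih => xor ih (tb m k && tb M (53 * k))) n

theorem trB_succ (m M n : ℕ) : trB m M (n + 1) = xor (trB m M n) (tb m n && tb M (53 * n)) := rfl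

/-- `Bool → ZMod 2` -/
def b2 (b : Bool) : ZMod 2 := if b then 1 else 0

theorem b2_xor : ∀ a b : Bool, b2 (xor a b) = b2 a + b2 b := by decide

theorem b2_inj : ∀ a b : Bool, b2 a = b2 b → a = b := by decide

theorem sum_trB (m M : ℕ) : ∀ n : ℕ, ∑ k ∈ Finset.range n, b2 (tb m k && tb M (53 * k)) = b2 (trB m M n)
  | 0 => by simp [trB, b2]
  | n + 1 => by rw [Finset.sum_range_succ, sum_trB m M n, trB_succ, b2_xor]

theorem trace_sem (m M : ℕ) :
    (dg (ZMod 2) m * sem pos (ZMod 2) M).trace = b2 (trB m M 52) := by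
  rw [← sum_trB]
  unfold Matrix.trace
  refine Finset.sum_bij (fun i _ => pos i) ?_ ?_ ?_ ?_
  · intro i _
    exact Finset.mem_range.2 (posOK.lt i)
  · intro i _ j _ h
    exact posOK.inj h
  · intro n hn
    obtain ⟨i, hi⟩ := posOK.surj n (Finset.mem_range.1 hn)
    exact ⟨i, Finset.mem_univ _, hi⟩
  · intro i _
    rw [Matrix.diag_apply]
    unfold dg
    rw [Matrix.diagonal_mul, sem_apply, tb_eq, tb_eq, show 53 * pos i = 52 * pos i + pos i by ring]
    cases m.testBit (pos i) <;> cases M.testBit (52 * pos i + pos i) <;> simp [b2]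

/-! ### the invariants -/

/-- the invariants of an element -/
noncomputable def ig (g : LL) : (ℕ × ℕ) × (ℕ × ℕ) × ZMod 2 × ZMod 2 :=
  (rk2 g, rk2 (g ^ 3), tJ (g : GL chevF4.Idx (ZMod 2)), tI (g : GL chevF4.Idx (ZMod 2)))

theorem ig_conj (y g : LL) : ig (y * g * y⁻¹) = ig g := by
  have h1 : ((y * g * y⁻¹ : LL) : GL chevF4.Idx (ZMod 2)) =
      (y : GL chevF4.Idx (ZMod 2)) * g * (y : GL chevF4.Idx (ZMod 2))⁻¹ := rfl
  have h2 : (y * g * y⁻¹) ^ 3 = y * g ^ 3 * y⁻¹ := conj3 y g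
  unfold ig
  rw [rk2_conj, h2, rk2_conj, h1, tJ_conj (group_le_pres g.2) (group_le_pres y.2),
    tI_conj (group_le_pres g.2) (group_le_pres y.2)]

theorem ig_eq_of_isConj {g h : LL} (e : IsConj g h) : ig g = ig h := by
  obtain ⟨y, rfl⟩ := isConj_iff.1 e
  exact (ig_conj y g).symm

/-- the invariants of a word -/
def iw (w : List ℕ) : (ℕ × ℕ) × (ℕ × ℕ) × Bool × Bool :=
  (iv w, iv (w ++ (w ++ w)), trB maskJ (wordM w) 52, trB maskI (wordM w) 52)

/-- the letters are roots -/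
def okw (w : List ℕ) : Bool := w.all fun r => decide (r < 48)

theorem okw_lt {w : List ℕ} (h : okw w = true) : ∀ r ∈ w, r < 48 := by
  unfold okw at h
  rw [List.all_eq_true] at h
  exact fun r hr => of_decide_eq_true (h r hr)

theorem okw_append {u v : List ℕ} (hu : okw u = true) (hv : okw v = true) : okw (u ++ v) = true := by
  unfold okw at *
  rw [List.all_append, hu, hv]
  rfl

theorem coe_wd_sem {w : List ℕ} (hw : okw w = true) :
    (((wd w : LL) : GL chevF4.Idx (ZMod 2)) : Matrix chevF4.Idx chevF4.Idx (ZMod 2)) =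
      sem pos (ZMod 2) (wordM w) := by
  rw [coe_wd_wX, coe_wX, sem_wordM w (okw_lt hw)]

theorem ig_wd {w : List ℕ} (hw : okw w = true) :
    ig (wd w) = ((iw w).1, (iw w).2.1, b2 (iw w).2.2.1, b2 (iw w).2.2.2) := by
  have h3 : wd w ^ 3 = wd (w ++ (w ++ w)) := by
    rw [wd_append, wd_append, cube]
  unfold ig iw
  rw [h3, rk2_wd w hw, rk2_wd _ (okw_append hw (okw_append hw hw))]
  unfold tJ tI
  rw [coe_wd_sem hw, trace_sem, trace_sem]

theorem iw_eq_of_isConj {w w' : List ℕ} (hw : okw w = true) (hw' : okw w' = true) (e : IsConj (wd w) (wd w')) :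
    iw w = iw w' := by
  have h := ig_eq_of_isConj e
  rw [ig_wd hw, ig_wd hw'] at h
  simp only [Prod.mk.injEq] at h
  obtain ⟨h1, h2, h3, h4⟩ := h
  exact Prod.ext h1 (Prod.ext h2 (Prod.ext (b2_inj _ _ h3) (b2_inj _ _ h4)))

/-- **words with different invariants are not conjugate** -/
theorem sep_iw {w w' : List ℕ} (hw : okw w = true) (hw' : okw w' = true) (h : iw w ≠ iw w') :
    ¬ IsConj (wd w) (wd w') := fun e => h (iw_eq_of_isConj hw hw' e)

/-! ### trivial words -/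

/-- a trivial word -/
theorem wd_eq_one_of {w : List ℕ} (hw : okw w = true) (h : Nat.beq (wordM w) idN = true) : wd w = 1 := by
  apply Subtype.ext
  apply Units.ext
  rw [coe_wd_sem hw, Nat.eq_of_beq_eq_true h, sem_idN]
  rfl

/-- repetition -/
def rpw (w : List ℕ) : ℕ → List ℕ := Nat.rec [] (fun _ ih => w ++ ih)

theorem rpw_succ (w : List ℕ) (n : ℕ) : rpw w (n + 1) = w ++ rpw w n := rfl

theorem wd_rpw (w : List ℕ) : ∀ n : ℕ, wd (rpw w n) = wd w ^ n
  | 0 => by
    rw [pow_zero]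
    exact wd_nil
  | n + 1 => by rw [rpw_succ, wd_append, wd_rpw w n, pow_succ']

theorem okw_rpw {w : List ℕ} (hw : okw w = true) : ∀ n : ℕ, okw (rpw w n) = true
  | 0 => rfl
  | n + 1 => okw_append hw (okw_rpw hw n)

/-- the order divides `n` -/
theorem pow_eq_one_of {w : List ℕ} {n : ℕ} (hw : okw w = true) (h : Nat.beq (wordM (rpw w n)) idN = true) :
    wd w ^ n = 1 := by
  rw [← wd_rpw]
  exact wd_eq_one_of (okw_rpw hw n) h

end Cfsg.Agent.H326.F4C
end

-- part: H326/F4C/Reps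
section
/-!
# Sixteen elements of odd order of `F₄(2)`, pairwise not conjugate (helper326)

* `W16` : the words with exponents: `1`, `3A 3B 3C 5A 7B 9B 15B` (letters of the Levi subgroup `{27, 25, 24}`),
  `7A 9A 15A` (the same under `bar`), `13`, `17A`, `17B = 17A³`, `21A`, `21B` (`bar`);
* `f16`, `odd_f16`, `f16_inj` : the input of the count of the 2-regular classes.
-/

set_option autoImplicit false
set_option maxRecDepth 100000

namespace Cfsg.Agent.H326.F4C

open Cfsg.Lie Cfsg.Agent.ChevalleyStructure.TwF4.Rel Cfsg.Agent.ChevalleyStructure.TwF4.Tables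
open Cfsg.Agent.ChevalleyStructure.TwF4.Bits
open Cfsg.Agent.FourTwo.Base Cfsg.Agent.FourTwo.RankInv Cfsg.Agent.FourTwo.ClassSep

/-- order 13 -/
def w13 : List ℕ := [25, 14, 20, 33, 23, 22, 27, 24]
/-- order 17 -/
def w17 : List ℕ := [22, 23, 24, 33, 22, 20, 27, 14, 25]
/-- order 21 -/
def w21 : List ℕ := [33, 23, 24, 14, 20, 27, 20]
/-- its image under `bar` -/
def w21' : List ℕ := [24, 14, 33, 23, 22, 25, 22]

/-- words in the first Levi subgroup -/
def WL : List (ℕ × List ℕ) := [(1, []), (3, [20, 27]), (3, [22, 25]), (3, [23, 24, 20, 27]), (5, [22, 25, 20, 27]),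
  (7, [24, 23, 22, 25]), (9, [23, 25, 24, 22, 25, 20, 27]), (15, [24, 23, 25, 22, 20, 27])]

/-- words in the second Levi subgroup -/
def WM : List (ℕ × List ℕ) := [(7, [33, 14, 20, 27]), (9, [14, 27, 33, 20, 27, 22, 25]), (15, [33, 14, 27, 20, 22, 25])]

/-- the other words -/
def WN : List (ℕ × List ℕ) := [(13, w13), (17, w17), (17, w17 ++ (w17 ++ w17)), (21, w21), (21, w21')]

/-- exponents and words -/
def W16 : List (ℕ × List ℕ) := WL ++ (WM ++ WN)

theorem length16 : W16.length = 16 := rfl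

private theorem _root_.Cfsg.Agent.KO31be1ed.e0.{ku, kv} {α : Type kv} {M : List α → Sort ku} (φ : ∀ l, M l) {z : M List.nil} {s : ∀ a l, M l → M (List.cons a l)} (h0 : φ List.nil = z) (hs : ∀ a l, φ (List.cons a l) = s a l (φ l)) (l : List α) : φ l = @List.rec α M z s l := List.rec h0 (fun a l ih => (hs a l).trans (congrArg (s a l) ih)) l
private noncomputable def _root_.Cfsg.Agent.KO31be1ed.k1.{ku0, ku1} : type_of% @List.foldr.{ku0, ku1} := @(fun x0 x1 x2 x3 x4 => @List.rec.{(ku1+1), ku0} @x0 @(fun x5 => @x1) @x3 @(fun x5 x6 x7 => @x2 @x5 @x7) @x4)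
private theorem _root_.Cfsg.Agent.KO31be1ed.e1.{ku0, ku1} : @List.foldr.{ku0, ku1} = @_root_.Cfsg.Agent.KO31be1ed.k1.{ku0, ku1} := by delta _root_.Cfsg.Agent.KO31be1ed.k1; funext a0 a1 a2 a3 a4; refine (_root_.Cfsg.Agent.KO31be1ed.e0 (fun a4 => @List.foldr.{ku0, ku1} a0 a1 a2 a3 a4) ?_ (fun c0 c1 => ?_) a4 :) <;> (rfl')
private theorem _root_.Cfsg.Agent.KO31be1ed.e2.{ku} {M : Nat → Sort ku} (φ : ∀ n, M n) {z : M Nat.zero} {s : ∀ n, M n → M (Nat.succ n)} (h0 : φ Nat.zero = z) (hs : ∀ n, φ (Nat.succ n) = s n (φ n)) (n : Nat) : φ n = @Nat.rec M z s n := Nat.rec h0 (fun n ih => (hs n).trans (congrArg (s n) ih)) n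
private noncomputable def _root_.Cfsg.Agent.KO31be1ed.k3 : type_of% @List.range.loop := @(fun x0 x1 => @Nat.rec.{1} @(fun x2 => (@List.{0} ℕ) → @List.{0} ℕ) @(fun x2 => @x2) @(fun x2 x3 x4 => @x3 (@x2 :: @x4)) @x0 @x1)
private theorem _root_.Cfsg.Agent.KO31be1ed.e3 : @List.range.loop = @_root_.Cfsg.Agent.KO31be1ed.k3 := by delta _root_.Cfsg.Agent.KO31be1ed.k3; funext a0 a1; refine (congrFun (_root_.Cfsg.Agent.KO31be1ed.e2 (fun a0 a1 => @List.range.loop a0 a1) ?_ (fun c0 => ?_) a0) a1 :) <;> (rfl')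
private noncomputable def _root_.Cfsg.Agent.KO31be1ed.k4 : type_of% @List.range := @(fun x0 => @Cfsg.Agent.KO31be1ed.k3 @x0 [])
private theorem _root_.Cfsg.Agent.KO31be1ed.e4 : @List.range = @_root_.Cfsg.Agent.KO31be1ed.k4 := by delta _root_.Cfsg.Agent.KO31be1ed.k4; rewrite [← Cfsg.Agent.KO31be1ed.e3]; rfl'
private noncomputable def _root_.Cfsg.Agent.KO31be1ed.k5.{ku0} : type_of% @List.all.{ku0} := @(fun x0 x1 x2 => @List.rec.{(ku0+1), ku0} @x0 @(fun x3 => (@x0 → @Bool) → @Bool) @(fun x3 => @Bool.true) @(fun x3 x4 x5 x6 => @Bool.rec.{1} @(fun x7 => @Bool) @Bool.false (@x5 @x6) (@x6 @x3)) @x1 @x2)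
private theorem _root_.Cfsg.Agent.KO31be1ed.e5.{ku0} : @List.all.{ku0} = @_root_.Cfsg.Agent.KO31be1ed.k5.{ku0} := by delta _root_.Cfsg.Agent.KO31be1ed.k5; funext a0 a1 a2; refine (congrFun (_root_.Cfsg.Agent.KO31be1ed.e0 (fun a1 a2 => @List.all.{ku0} a0 a1 a2) ?_ (fun c0 c1 => ?_) a1) a2 :) <;> (rfl')
private noncomputable def _root_.Cfsg.Agent.KO31be1ed.k6 : type_of% @Bool.and := @(fun x0 x1 => @Bool.rec.{1} @(fun x2 => @Bool) @Bool.false @x1 @x0)
private theorem _root_.Cfsg.Agent.KO31be1ed.e6 : @Bool.and = @_root_.Cfsg.Agent.KO31be1ed.k6 := by delta _root_.Cfsg.Agent.KO31be1ed.k6; rfl'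
private noncomputable def _root_.Cfsg.Agent.KO31be1ed.oLe.{ku} (α : Sort ku) (a b : Nat) (f t : α) : α := @Decidable.rec (@LE.le Nat instLENat a b) (fun _ => α) (fun _ => f) (fun _ => t) (Nat.decLe a b)
private noncomputable def _root_.Cfsg.Agent.KO31be1ed.k7.{ku} (α : Sort ku) (a b : Nat) (f t : α) : α := @Bool.rec (fun _ => α) f t (Nat.ble a b)
private theorem _root_.Cfsg.Agent.KO31be1ed.e7.{ku} : @_root_.Cfsg.Agent.KO31be1ed.oLe.{ku} = @_root_.Cfsg.Agent.KO31be1ed.k7.{ku} := funext fun α => funext fun a => funext fun b => funext fun f => funext fun t => by delta _root_.Cfsg.Agent.KO31be1ed.oLe _root_.Cfsg.Agent.KO31be1ed.k7; cases h : Nat.ble a b <;> cases Nat.decLe a b <;> rename_i g <;> first | rfl | exact absurd (h.symm.trans (Nat.ble_eq_true_of_le g)) Bool.false_ne_true | exact absurd (Nat.le_of_ble_eq_true h) g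
private noncomputable def _root_.Cfsg.Agent.KO31be1ed.k8 : (by first | exact type_of% @Cfsg.Agent.H326.F4C.okw | exact Unit : Sort _) := by first | (refine @Subtype.val _ (fun g => @Cfsg.Agent.H326.F4C.okw = @g) (@Subtype.mk _ _ (@(fun x0 => @Cfsg.Agent.KO31be1ed.k5.{0} _ @x0 @(fun x1 => @Cfsg.Agent.KO31be1ed.k7.{1} @Bool (@Nat.succ @x1) (nat_lit 48) @Bool.false @Bool.true))) ?_); rewrite [← Cfsg.Agent.KO31be1ed.e7.{1}, ← Cfsg.Agent.KO31be1ed.e5.{0}]; rfl') | exact @Cfsg.Agent.H326.F4C.okw | exact ()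
private theorem _root_.Cfsg.Agent.KO31be1ed.e8 : (by first | exact @Cfsg.Agent.H326.F4C.okw = @_root_.Cfsg.Agent.KO31be1ed.k8 | exact True : Prop) := by first | (delta _root_.Cfsg.Agent.KO31be1ed.k8; exact @Subtype.property _ (fun g => @Cfsg.Agent.H326.F4C.okw = @g) _) | rfl | trivial
private noncomputable def _root_.Cfsg.Agent.KO31be1ed.k9 : (by first | exact type_of% @Cfsg.Agent.ChevalleyStructure.TwF4.Bits.moveRow | exact Unit : Sort _) := by first | (refine @Subtype.val _ (fun g => @Cfsg.Agent.ChevalleyStructure.TwF4.Bits.moveRow = @g) (@Subtype.mk _ _ (@(fun x0 x1 x2 => @Nat.shiftLeft (@Nat.mod (@Nat.shiftRight @x0 (@Nat.mul (nat_lit 52) @x2)) (@Nat.pow (nat_lit 2) (nat_lit 52))) (@Nat.mul (nat_lit 52) @x1))) ?_); rfl') | exact @Cfsg.Agent.ChevalleyStructure.TwF4.Bits.moveRow | exact ()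
private theorem _root_.Cfsg.Agent.KO31be1ed.e9 : (by first | exact @Cfsg.Agent.ChevalleyStructure.TwF4.Bits.moveRow = @_root_.Cfsg.Agent.KO31be1ed.k9 | exact True : Prop) := by first | (delta _root_.Cfsg.Agent.KO31be1ed.k9; exact @Subtype.property _ (fun g => @Cfsg.Agent.ChevalleyStructure.TwF4.Bits.moveRow = @g) _) | rfl | trivial
private noncomputable def _root_.Cfsg.Agent.KO31be1ed.k10 : type_of% @Nat.decEq := @(fun x0 x1 => @Bool.rec.{1} @(fun x2 => (@Eq.{1} _ (@Nat.beq @x0 @x1) @x2) → @Decidable (@Eq.{1} _ @x0 @x1)) @(fun x2 => @Decidable.isFalse _ (@Nat.ne_of_beq_eq_false _ _ @x2)) @(fun x2 => @Decidable.isTrue _ (@Nat.eq_of_beq_eq_true _ _ @x2)) (@Nat.beq @x0 @x1) (@Eq.refl.{1} _ (@Nat.beq @x0 @x1)))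
private theorem _root_.Cfsg.Agent.KO31be1ed.e10 : @Nat.decEq = @_root_.Cfsg.Agent.KO31be1ed.k10 := by delta _root_.Cfsg.Agent.KO31be1ed.k10; rfl'
private noncomputable def _root_.Cfsg.Agent.KO31be1ed.k11 : (by first | exact type_of% @Cfsg.Agent.ChevalleyStructure.TwF4.Bits.lmul | exact Unit : Sort _) := by first | (refine @Subtype.val _ (fun g => @Cfsg.Agent.ChevalleyStructure.TwF4.Bits.lmul = @g) (@Subtype.mk _ _ (@(fun x0 x1 => @Decidable.rec.{1} _ @(fun x2 => ℕ) @(fun x2 => @Cfsg.Agent.KO31be1ed.k1.{0, 0} _ _ @(fun x3 x4 => @Nat.xor @x4 (@Cfsg.Agent.KO31be1ed.k9 @x1 (@Prod.fst.{0, 0} _ _ @x3) (@Prod.snd.{0, 0} _ _ @x3))) (nat_lit 0) @x0) @(fun x2 => @Eq.rec.{1, 1} ℕ (nat_lit 0) @(fun x3 x4 => ℕ) (nat_lit 0) @x1 (@Eq.symm.{1} _ _ _ @x2)) (@Cfsg.Agent.KO31be1ed.k10 @x1 (nat_lit 0)))) ?_); rewrite [← Cfsg.Agent.KO31be1ed.e10, ← Cfsg.Agent.KO31be1ed.e9, ← Cfsg.Agent.KO31be1ed.e1.{0, 0}]; (try delta Cfsg.Agent.ChevalleyStructure.TwF4.Bits.lmul);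 (try generalize @Cfsg.Agent.ChevalleyStructure.TwF4.Bits.moveRow = g0); rfl') | exact @Cfsg.Agent.ChevalleyStructure.TwF4.Bits.lmul | exact ()
private theorem _root_.Cfsg.Agent.KO31be1ed.e11 : (by first | exact @Cfsg.Agent.ChevalleyStructure.TwF4.Bits.lmul = @_root_.Cfsg.Agent.KO31be1ed.k11 | exact True : Prop) := by first | (delta _root_.Cfsg.Agent.KO31be1ed.k11; exact @Subtype.property _ (fun g => @Cfsg.Agent.ChevalleyStructure.TwF4.Bits.lmul = @g) _) | rfl | trivial
private noncomputable def _root_.Cfsg.Agent.KO31be1ed.k12.{ku0} : type_of% @List.append.{ku0} := @(fun x0 x1 x2 => @List.rec.{(ku0+1), ku0} @x0 @(fun x3 => (@List.{ku0} @x0) → @List.{ku0} @x0) @(fun x3 => @x3) @(fun x3 x4 x5 x6 => @x3 :: (@x5 @x6)) @x1 @x2)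
private theorem _root_.Cfsg.Agent.KO31be1ed.e12.{ku0} : @List.append.{ku0} = @_root_.Cfsg.Agent.KO31be1ed.k12.{ku0} := by delta _root_.Cfsg.Agent.KO31be1ed.k12; funext a0 a1 a2; refine (congrFun (_root_.Cfsg.Agent.KO31be1ed.e0 (fun a1 a2 => @List.append.{ku0} a0 a1 a2) ?_ (fun c0 c1 => ?_) a1) a2 :) <;> (rfl')
private noncomputable def _root_.Cfsg.Agent.KO31be1ed.k14 : (by first | exact type_of% @Cfsg.Agent.ChevalleyStructure.TwF4.Tables.nth | exact Unit : Sort _) := by first | (refine @Subtype.val _ (fun g => @Cfsg.Agent.ChevalleyStructure.TwF4.Tables.nth = @g) (@Subtype.mk _ _ (@(fun x0 x1 x2 => @List.rec.{1, 0} (@List.{0} @x0) @(fun x3 => ℕ → @List.{0} @x0) @(fun x3 => []) @(fun x3 x4 x5 x6 => @Nat.rec.{1} @(fun x7 => @List.{0} @x0) @x3 @(fun x7 x8 => @x5 @x7) @x6) @x1 @x2)) ?_); funext a0 a1 a2; refine (congrFun (_root_.Cfsg.Agent.KO31be1ed.e0 (fun a1 a2 => @Cfsg.Agent.ChevalleyStructure.TwF4.Tables.nth a0 a1 a2) ?_ (fun c0 c1 => ?_)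 a1) a2 :) <;> [(funext b0; (rfl')); (funext b0; (cases b0 with | @zero  => (rfl') | @succ b0_0 => (rfl')))]) | exact @Cfsg.Agent.ChevalleyStructure.TwF4.Tables.nth | exact ()
private theorem _root_.Cfsg.Agent.KO31be1ed.e14 : (by first | exact @Cfsg.Agent.ChevalleyStructure.TwF4.Tables.nth = @_root_.Cfsg.Agent.KO31be1ed.k14 | exact True : Prop) := by first | (delta _root_.Cfsg.Agent.KO31be1ed.k14; exact @Subtype.property _ (fun g => @Cfsg.Agent.ChevalleyStructure.TwF4.Tables.nth = @g) _) | rfl | trivial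
private noncomputable def _root_.Cfsg.Agent.KO31be1ed.k15 : (by first | exact type_of% @Cfsg.Agent.FourTwo.RankInv.stepM | exact Unit : Sort _) := by first | (refine @Subtype.val _ (fun g => @Cfsg.Agent.FourTwo.RankInv.stepM = @g) (@Subtype.mk _ _ (@(fun x0 x1 => @Nat.xor @x1 (@Cfsg.Agent.KO31be1ed.k11 (@Cfsg.Agent.KO31be1ed.k12.{0} _ (@Cfsg.Agent.KO31be1ed.k14 _ @Cfsg.Agent.ChevalleyStructure.TwF4.Tables.tabE @x0) (@Cfsg.Agent.KO31be1ed.k14 _ @Cfsg.Agent.ChevalleyStructure.TwF4.Tables.tabF @x0)) @x1))) ?_); rewrite [← Cfsg.Agent.KO31be1ed.e14, ← Cfsg.Agent.KO31be1ed.e12.{0}, ← Cfsg.Agent.KO31be1ed.e11]; (try delta Cfsg.Agent.FourTwo.RankInv.stepM Cfsg.Agent.ChevalleyStructure.TwF4.Tables.Els Cfsg.Agent.ChevalleyStructure.TwF4.Tables.Fls); (try generalize @Cfsg.Agent.ChevalleyStructure.TwF4.Bits.lmul = g0); (try generalize @Cfsg.Agent.ChevalleyStructure.TwF4.Tables.nth = g1); (try generalize @Cfsg.Agent.ChevalleyStructure.TwF4.Tables.tabE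 = g2); (try generalize @Cfsg.Agent.ChevalleyStructure.TwF4.Tables.tabF = g3); rfl') | exact @Cfsg.Agent.FourTwo.RankInv.stepM | exact ()
private theorem _root_.Cfsg.Agent.KO31be1ed.e15 : (by first | exact @Cfsg.Agent.FourTwo.RankInv.stepM = @_root_.Cfsg.Agent.KO31be1ed.k15 | exact True : Prop) := by first | (delta _root_.Cfsg.Agent.KO31be1ed.k15; exact @Subtype.property _ (fun g => @Cfsg.Agent.FourTwo.RankInv.stepM = @g) _) | rfl | trivial
private noncomputable def _root_.Cfsg.Agent.KO31be1ed.k16 : (by first | exact type_of% @Cfsg.Agent.FourTwo.RankInv.wordM | exact Unit : Sort _) := by first | (refine @Subtype.val _ (fun g => @Cfsg.Agent.FourTwo.RankInv.wordM = @g) (@Subtype.mk _ _ (@(fun x0 => @List.rec.{1, 0} ℕ @(fun x1 => ℕ) @Cfsg.Agent.ChevalleyStructure.TwF4.Bits.idN @(fun x1 x2 x3 => @Cfsg.Agent.KO31be1ed.k15 @x1 @x3) @x0)) ?_); rewrite [← Cfsg.Agent.KO31be1ed.e15]; funext a0; refine (_root_.Cfsg.Agent.KO31be1ed.e0 (fun a0 => @Cfsg.Agent.FourTwo.RankInv.wordM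 a0) ?_ (fun c0 c1 => ?_) a0 :) <;> ((try delta Cfsg.Agent.FourTwo.RankInv.wordM Cfsg.Agent.FourTwo.RankInv.wordM._f); (try generalize @Cfsg.Agent.ChevalleyStructure.TwF4.Bits.idN = g0); (try generalize @Cfsg.Agent.FourTwo.RankInv.stepM = g1); rfl')) | exact @Cfsg.Agent.FourTwo.RankInv.wordM | exact ()
private theorem _root_.Cfsg.Agent.KO31be1ed.e16 : (by first | exact @Cfsg.Agent.FourTwo.RankInv.wordM = @_root_.Cfsg.Agent.KO31be1ed.k16 | exact True : Prop) := by first | (delta _root_.Cfsg.Agent.KO31be1ed.k16; exact @Subtype.property _ (fun g => @Cfsg.Agent.FourTwo.RankInv.wordM = @g) _) | rfl | trivial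
private noncomputable def _root_.Cfsg.Agent.KO31be1ed.k17 : (by first | exact type_of% @Cfsg.Agent.H326.F4C.rpw | exact Unit : Sort _) := by first | (refine @Subtype.val _ (fun g => @Cfsg.Agent.H326.F4C.rpw = @g) (@Subtype.mk _ _ (@(fun x0 x1 => @Nat.rec.{1} @(fun x2 => @List.{0} ℕ) [] @(fun x2 x3 => @Cfsg.Agent.KO31be1ed.k12.{0} _ @x0 @x3) @x1)) ?_); rewrite [← Cfsg.Agent.KO31be1ed.e12.{0}]; rfl') | exact @Cfsg.Agent.H326.F4C.rpw | exact ()
private theorem _root_.Cfsg.Agent.KO31be1ed.e17 : (by first | exact @Cfsg.Agent.H326.F4C.rpw = @_root_.Cfsg.Agent.KO31be1ed.k17 | exact True : Prop) := by first | (delta _root_.Cfsg.Agent.KO31be1ed.k17; exact @Subtype.property _ (fun g => @Cfsg.Agent.H326.F4C.rpw = @g) _) | rfl | trivial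

theorem chk16 : (W16.all fun p => okw p.2 && Nat.beq (wordM (rpw p.2 p.1)) idN) = true := by (first | (delta Cfsg.Agent.ChevalleyStructure.TwF4.Bits.idN; rewrite [Cfsg.Agent.KO31be1ed.e5.{0}, Cfsg.Agent.KO31be1ed.e6, Cfsg.Agent.KO31be1ed.e8, Cfsg.Agent.KO31be1ed.e16, Cfsg.Agent.KO31be1ed.e17, Cfsg.Agent.KO31be1ed.e1.{0, 0}, Cfsg.Agent.KO31be1ed.e4]; decide +kernel) | decide +kernel)

theorem odd16 : (W16.all fun p => p.1 % 2 == 1) = true := by decide +kernel

private noncomputable def _root_.Cfsg.Agent.KO31be1ed.k18 : type_of% @Decidable.decide := @(fun x0 x1 => @Decidable.rec.{1} _ @(fun x2 => @Bool) @(fun x2 => @Bool.false) @(fun x2 => @Bool.true) @x1)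
private theorem _root_.Cfsg.Agent.KO31be1ed.e18 : @Decidable.decide = @_root_.Cfsg.Agent.KO31be1ed.k18 := by delta _root_.Cfsg.Agent.KO31be1ed.k18; rfl'
private noncomputable def _root_.Cfsg.Agent.KO31be1ed.k20.{ku0} : type_of% @List.hasDecEq.{ku0} := @(fun x0 x1 x2 x3 => @List.rec.{(ku0+1), ku0} @x0 @(fun x4 => (x5 : @List.{ku0} @x0) → @Decidable (@Eq.{(ku0+1)} _ @x4 @x5)) @(fun x4 => @List.rec.{1, ku0} @x0 @(fun x5 => @Decidable (@Eq.{(ku0+1)} _ [] @x5)) (@Decidable.isTrue _ (@List.hasDecEq._proof_1.{ku0} _)) @(fun x5 x6 x7 => @Decidable.isFalse _ (@List.hasDecEq._proof_3.{ku0} _ @x5 @x6)) @x4) @(fun x4 x5 x6 x7 => @List.rec.{1, ku0} @x0 @(fun x8 => @Decidable (@Eq.{(ku0+1)} _ (@x4 :: @x5) @x8)) (@Decidable.isFalse _ (@List.hasDecEq._proof_2.{ku0} _ @x4 @x5)) @(fun x8 x9 x10 => @Decidable.rec.{1} _ @(fun x11 => @Decidable (@Eq.{(ku0+1)} _ (@x4 :: @x5) (@x8 :: @x9))) @(fun x11 => @Decidable.isFalse _ (@List.hasDecEq._proof_6.{ku0} _ @x4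 @x5 @x8 @x9 @x11)) @(fun x11 => @Decidable.rec.{1} _ @(fun x12 => @Decidable (@Eq.{(ku0+1)} _ (@x4 :: @x5) (@x8 :: @x9))) @(fun x12 => @Decidable.isFalse _ (@List.hasDecEq._proof_5.{ku0} _ @x4 @x5 @x8 @x9 @x12)) @(fun x12 => @Decidable.isTrue _ (@List.hasDecEq._proof_4.{ku0} _ @x4 @x5 @x8 @x9 @x11 @x12)) (@x6 @x9)) (@x1 @x4 @x8)) @x7) @x2 @x3)
private theorem _root_.Cfsg.Agent.KO31be1ed.e20.{ku0} : @List.hasDecEq.{ku0} = @_root_.Cfsg.Agent.KO31be1ed.k20.{ku0} := by delta _root_.Cfsg.Agent.KO31be1ed.k20; funext a0 a1 a2 a3; refine (congrFun (_root_.Cfsg.Agent.KO31be1ed.e0 (fun a2 a3 => @List.hasDecEq.{ku0} a0 a1 a2 a3) ?_ (fun c0 c1 => ?_) a2) a3 :) <;> [(funext b0; (cases b0 with | @nil  => (rfl') | @cons b0_0 b0_1 => (rfl'))); (funext b0; (cases b0 with | @nil  => (rfl') | @cons b0_0 b0_1 => (rfl')))]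
private noncomputable def _root_.Cfsg.Agent.KO31be1ed.k21.{ku0} : type_of% @instDecidableEqList.{ku0} := @(fun x0 x1 x2 x3 => @List.rec.{1, ku0} @x0 @(fun x4 => @Decidable (@Eq.{(ku0+1)} _ @x4 @x3)) (@List.rec.{1, ku0} @x0 @(fun x4 => @Decidable (@Eq.{(ku0+1)} _ [] @x4)) (@Decidable.isTrue _ (@List.hasDecEq._proof_1.{ku0} _)) @(fun x4 x5 x6 => @Decidable.isFalse _ (@List.hasDecEq._proof_3.{ku0} _ @x4 @x5)) @x3) @(fun x4 x5 x6 => @List.rec.{1, ku0} @x0 @(fun x7 => @Decidable (@Eq.{(ku0+1)} _ (@x4 :: @x5) @x7)) (@Decidable.isFalse _ (@List.hasDecEq._proof_2.{ku0} _ @x4 @x5)) @(fun x7 x8 x9 => @Decidable.rec.{1} _ @(fun x10 => @Decidable (@Eq.{(ku0+1)} _ (@x4 :: @x5) (@x7 :: @x8))) @(fun x10 => @Decidable.isFalse _ (@List.hasDecEq._proof_6.{ku0} _ @x4 @x5 @x7 @x8 @x10)) @(fun x10 => @Decidable.rec.{1} _ @(fun x11 => @Decidable (@Eq.{(ku0+1)} _ (@x4 :: @x5) (@x7 :: @x8))) @(fun x11 => @Decidable.isFalse _ (@List.hasDecEq._proof_5.{ku0} _ @x4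 @x5 @x7 @x8 @x11)) @(fun x11 => @Decidable.isTrue _ (@List.hasDecEq._proof_4.{ku0} _ @x4 @x5 @x7 @x8 @x10 @x11)) (@Cfsg.Agent.KO31be1ed.k20.{ku0} _ @x1 @x5 @x8)) (@x1 @x4 @x7)) @x3) @x2)
private theorem _root_.Cfsg.Agent.KO31be1ed.e21.{ku0} : @instDecidableEqList.{ku0} = @_root_.Cfsg.Agent.KO31be1ed.k21.{ku0} := by delta _root_.Cfsg.Agent.KO31be1ed.k21; rewrite [← Cfsg.Agent.KO31be1ed.e20.{ku0}]; rfl'
private noncomputable def _root_.Cfsg.Agent.KO31be1ed.k22.{ku0, ku1} : type_of% @instDecidableEqProd.{ku0, ku1} := @(fun x0 x1 x2 x3 x4 x5 => @Prod.rec.{1, ku0, ku1} @x0 @x1 @(fun x6 => @Decidable (@Eq.{(max (ku1+1) (ku0+1))} _ @x6 @x5)) @(fun x6 x7 => @Prod.rec.{1, ku0, ku1} @x0 @x1 @(fun x8 => @Decidable (@Eq.{(max (ku1+1) (ku0+1))} _ ((@x6, @x7)) @x8)) @(fun x8 x9 => @Decidable.rec.{1} _ @(fun x10 => @Decidable (@Eq.{(max (ku1+1) (ku0+1))} _ ((@x6, @x7)) ((@x8, @x9)))) @(fun x10 => @Decidable.isFalse _ (@instDecidableEqProd._proof_3.{ku1,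 ku0} _ _ @x6 @x7 @x8 @x9 @x10)) @(fun x10 => @Decidable.rec.{1} _ @(fun x11 => @Decidable (@Eq.{(max (ku1+1) (ku0+1))} _ ((@x6, @x7)) ((@x8, @x9)))) @(fun x11 => @Decidable.isFalse _ (@instDecidableEqProd._proof_2.{ku1, ku0} _ _ @x6 @x7 @x8 @x9 @x11)) @(fun x11 => @Decidable.isTrue _ (@instDecidableEqProd._proof_1.{ku1, ku0} _ _ @x6 @x7 @x8 @x9 @x10 @x11)) (@x3 @x7 @x9)) (@x2 @x6 @x8)) @x5) @x4)
private theorem _root_.Cfsg.Agent.KO31be1ed.e22.{ku0, ku1} : @instDecidableEqProd.{ku0, ku1} = @_root_.Cfsg.Agent.KO31be1ed.k22.{ku0, ku1} := by delta _root_.Cfsg.Agent.KO31be1ed.k22; rfl'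
private noncomputable def _root_.Cfsg.Agent.KO31be1ed.k23 : type_of% @instDecidableEqNat := @Cfsg.Agent.KO31be1ed.k10
private theorem _root_.Cfsg.Agent.KO31be1ed.e23 : @instDecidableEqNat = @_root_.Cfsg.Agent.KO31be1ed.k23 := by delta _root_.Cfsg.Agent.KO31be1ed.k23; rewrite [← Cfsg.Agent.KO31be1ed.e10]; rfl'
private noncomputable def _root_.Cfsg.Agent.KO31be1ed.k24 : type_of% @Bool.decEq := @(fun x0 x1 => @Bool.rec.{1} @(fun x2 => @Decidable (@Eq.{1} _ @x2 @x1)) (@Bool.rec.{1} @(fun x2 => @Decidable (@Eq.{1} _ @Bool.false @x2)) (@Decidable.isTrue _ (@rfl.{1} _ _)) (@Decidable.isFalse _ @(fun x2 => @Bool.noConfusion.{0} _ _ _ @x2)) @x1) (@Bool.rec.{1} @(fun x2 => @Decidable (@Eq.{1} _ @Bool.true @x2)) (@Decidable.isFalse _ @(fun x2 => @Bool.noConfusion.{0} _ _ _ @x2)) (@Decidable.isTrue _ (@rfl.{1} _ _)) @x1) @x0)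
private theorem _root_.Cfsg.Agent.KO31be1ed.e24 : @Bool.decEq = @_root_.Cfsg.Agent.KO31be1ed.k24 := by delta _root_.Cfsg.Agent.KO31be1ed.k24; rfl'
private noncomputable def _root_.Cfsg.Agent.KO31be1ed.k25 : type_of% @instDecidableEqBool := @Cfsg.Agent.KO31be1ed.k24
private theorem _root_.Cfsg.Agent.KO31be1ed.e25 : @instDecidableEqBool = @_root_.Cfsg.Agent.KO31be1ed.k25 := by delta _root_.Cfsg.Agent.KO31be1ed.k25; rewrite [← Cfsg.Agent.KO31be1ed.e24]; rfl'
private noncomputable def _root_.Cfsg.Agent.KO31be1ed.k26.{ku0, ku1} : type_of% @List.map.{ku0, ku1} := @(fun x0 x1 x2 x3 => @List.rec.{(ku1+1), ku0} @x0 @(fun x4 => @List.{ku1} @x1) [] @(fun x4 x5 x6 => (@x2 @x4) :: @x6) @x3)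
private theorem _root_.Cfsg.Agent.KO31be1ed.e26.{ku0, ku1} : @List.map.{ku0, ku1} = @_root_.Cfsg.Agent.KO31be1ed.k26.{ku0, ku1} := by delta _root_.Cfsg.Agent.KO31be1ed.k26; funext a0 a1 a2 a3; refine (_root_.Cfsg.Agent.KO31be1ed.e0 (fun a3 => @List.map.{ku0, ku1} a0 a1 a2 a3) ?_ (fun c0 c1 => ?_) a3 :) <;> (rfl')
private noncomputable def _root_.Cfsg.Agent.KO31be1ed.k27 : (by first | exact type_of% @Cfsg.Agent.FourTwo.RankInv.tb | exact Unit : Sort _) := by first | (refine @Subtype.val _ (fun g => @Cfsg.Agent.FourTwo.RankInv.tb = @g) (@Subtype.mk _ _ (@(fun x0 x1 => @Nat.beq (@Nat.land (@Nat.shiftRight @x0 @x1) (nat_lit 1)) (nat_lit 1))) ?_); rfl') | exact @Cfsg.Agent.FourTwo.RankInv.tb | exact ()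
private theorem _root_.Cfsg.Agent.KO31be1ed.e27 : (by first | exact @Cfsg.Agent.FourTwo.RankInv.tb = @_root_.Cfsg.Agent.KO31be1ed.k27 | exact True : Prop) := by first | (delta _root_.Cfsg.Agent.KO31be1ed.k27; exact @Subtype.property _ (fun g => @Cfsg.Agent.FourTwo.RankInv.tb = @g) _) | rfl | trivial
private noncomputable def _root_.Cfsg.Agent.KO31be1ed.k28 : (by first | exact type_of% @Cfsg.Agent.FourTwo.RankInv.red | exact Unit : Sort _) := by first | (refine @Subtype.val _ (fun g => @Cfsg.Agent.FourTwo.RankInv.red = @g) (@Subtype.mk _ _ (@(fun x0 x1 => @Bool.rec.{1} @(fun x2 => ℕ) @x1 (@Nat.xor @x1 @x0) (@Cfsg.Agent.KO31be1ed.k27 @x1 (@Nat.log2 @x0)))) ?_); rewrite [← Cfsg.Agent.KO31be1ed.e27]; (try delta Cfsg.Agent.FourTwo.RankInv.red); (try generalize @Cfsg.Agent.FourTwo.RankInv.tb = g0); rfl') | exact @Cfsg.Agent.FourTwo.RankInv.red | exact ()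
private theorem _root_.Cfsg.Agent.KO31be1ed.e28 : (by first | exact @Cfsg.Agent.FourTwo.RankInv.red = @_root_.Cfsg.Agent.KO31be1ed.k28 | exact True : Prop) := by first | (delta _root_.Cfsg.Agent.KO31be1ed.k28; exact @Subtype.property _ (fun g => @Cfsg.Agent.FourTwo.RankInv.red = @g) _) | rfl | trivial
private noncomputable def _root_.Cfsg.Agent.KO31be1ed.k30 : (by first | exact type_of% @Cfsg.Agent.FourTwo.RankInv.rkF | exact Unit : Sort _) := by first | (refine @Subtype.val _ (fun g => @Cfsg.Agent.FourTwo.RankInv.rkF = @g) (@Subtype.mk _ _ (@(fun x0 x1 => @Nat.rec.{1} @(fun x2 => (@List.{0} ℕ) → ℕ) @(fun x2 => nat_lit 0) @(fun x2 x3 x4 => @List.rec.{1, 0} ℕ @(fun x5 => ℕ) (nat_lit 0) @(fun x5 x6 x7 => @Bool.rec.{1} @(fun x8 => ℕ) (@Nat.succ (@x3 (@Cfsg.Agent.KO31be1ed.k26.{0, 0} _ _ (@Cfsg.Agent.KO31be1ed.k28 @x5) @x6))) (@x3 @x6) (@Nat.beq @x5 (nat_lit 0))) @x4) @x0 @x1)) ?_); rewrite [← Cfsg.Agent.KO31be1ed.e28, ← Cfsg.Agent.KO31be1ed.e26.{0,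 0}]; funext a0 a1; refine (congrFun (_root_.Cfsg.Agent.KO31be1ed.e2 (fun a0 a1 => @Cfsg.Agent.FourTwo.RankInv.rkF a0 a1) ?_ (fun c0 => ?_) a0) a1 :) <;> [(funext b0; ((try delta Cfsg.Agent.FourTwo.RankInv.rkF Cfsg.Agent.FourTwo.RankInv.rkF._f); (try generalize @Cfsg.Agent.FourTwo.RankInv.red = g0); rfl')); (funext b0; (cases b0 with | @nil  => ((try delta Cfsg.Agent.FourTwo.RankInv.rkF Cfsg.Agent.FourTwo.RankInv.rkF._f); (try generalize @Cfsg.Agent.FourTwo.RankInv.red = g0); rfl') | @cons b0_0 b0_1 => ((try delta Cfsg.Agent.FourTwo.RankInv.rkF Cfsg.Agent.FourTwo.RankInv.rkF._f); (try generalize @Cfsg.Agent.FourTwo.RankInv.red = g0); rfl')))]) | exact @Cfsg.Agent.FourTwo.RankInv.rkF | exact ()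
private theorem _root_.Cfsg.Agent.KO31be1ed.e30 : (by first | exact @Cfsg.Agent.FourTwo.RankInv.rkF = @_root_.Cfsg.Agent.KO31be1ed.k30 | exact True : Prop) := by first | (delta _root_.Cfsg.Agent.KO31be1ed.k30; exact @Subtype.property _ (fun g => @Cfsg.Agent.FourTwo.RankInv.rkF = @g) _) | rfl | trivial
private noncomputable def _root_.Cfsg.Agent.KO31be1ed.k31 : (by first | exact type_of% @Cfsg.Agent.FourTwo.RankInv.rowN | exact Unit : Sort _) := by first | (refine @Subtype.val _ (fun g => @Cfsg.Agent.FourTwo.RankInv.rowN = @g) (@Subtype.mk _ _ (@(fun x0 x1 => @Nat.mod (@Nat.shiftRight @x0 (@Nat.mul (nat_lit 52) @x1)) (@Nat.pow (nat_lit 2) (nat_lit 52)))) ?_); rfl') | exact @Cfsg.Agent.FourTwo.RankInv.rowN | exact ()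
private theorem _root_.Cfsg.Agent.KO31be1ed.e31 : (by first | exact @Cfsg.Agent.FourTwo.RankInv.rowN = @_root_.Cfsg.Agent.KO31be1ed.k31 | exact True : Prop) := by first | (delta _root_.Cfsg.Agent.KO31be1ed.k31; exact @Subtype.property _ (fun g => @Cfsg.Agent.FourTwo.RankInv.rowN = @g) _) | rfl | trivial
private noncomputable def _root_.Cfsg.Agent.KO31be1ed.k32 : (by first | exact type_of% @Cfsg.Agent.FourTwo.RankInv.rkM | exact Unit : Sort _) := by first | (refine @Subtype.val _ (fun g => @Cfsg.Agent.FourTwo.RankInv.rkM = @g) (@Subtype.mk _ _ (@(fun x0 x1 => @Cfsg.Agent.KO31be1ed.k30 (nat_lit 52) (@Cfsg.Agent.KO31be1ed.k26.{0, 0} _ _ @(fun x2 => @Bool.rec.{1} @(fun x3 => ℕ) (nat_lit 0) (@Nat.land (@Cfsg.Agent.KO31be1ed.k31 (@Nat.xor @x1 @Cfsg.Agent.ChevalleyStructure.TwF4.Bits.idN) @x2) @x0) (@Cfsg.Agent.KO31be1ed.k27 @x0 @x2)) (@Cfsg.Agent.KO31be1ed.k3 (nat_lit 52) [])))) ?_); rewrite [← Cfsg.Agent.KO31be1ed.e3, ← Cfsg.Agent.KO31be1ed.e27,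 ← Cfsg.Agent.KO31be1ed.e31, ← Cfsg.Agent.KO31be1ed.e26.{0, 0}, ← Cfsg.Agent.KO31be1ed.e30]; (try delta Cfsg.Agent.FourTwo.RankInv.rkM); (try generalize @Cfsg.Agent.FourTwo.RankInv.rkF = g0); (try generalize @Cfsg.Agent.FourTwo.RankInv.rowN = g1); (try generalize @Cfsg.Agent.ChevalleyStructure.TwF4.Bits.idN = g2); (try generalize @Cfsg.Agent.FourTwo.RankInv.tb = g3); rfl') | exact @Cfsg.Agent.FourTwo.RankInv.rkM | exact ()
private theorem _root_.Cfsg.Agent.KO31be1ed.e32 : (by first | exact @Cfsg.Agent.FourTwo.RankInv.rkM = @_root_.Cfsg.Agent.KO31be1ed.k32 | exact True : Prop) := by first | (delta _root_.Cfsg.Agent.KO31be1ed.k32; exact @Subtype.property _ (fun g => @Cfsg.Agent.FourTwo.RankInv.rkM = @g) _) | rfl | trivial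
private noncomputable def _root_.Cfsg.Agent.KO31be1ed.k33 : (by first | exact type_of% @Cfsg.Agent.FourTwo.ClassSep.iv | exact Unit : Sort _) := by first | (refine @Subtype.val _ (fun g => @Cfsg.Agent.FourTwo.ClassSep.iv = @g) (@Subtype.mk _ _ (@(fun x0 => (@Cfsg.Agent.KO31be1ed.k32 @Cfsg.Agent.FourTwo.RankInv.maskJ (@Cfsg.Agent.KO31be1ed.k16 @x0), @Cfsg.Agent.KO31be1ed.k32 @Cfsg.Agent.FourTwo.RankInv.maskI (@Cfsg.Agent.KO31be1ed.k16 @x0)))) ?_); rewrite [← Cfsg.Agent.KO31be1ed.e16, ← Cfsg.Agent.KO31be1ed.e32]; (try delta Cfsg.Agent.FourTwo.ClassSep.iv); (try generalize @Cfsg.Agent.FourTwo.RankInv.rkM = g0); (try generalize @Cfsg.Agent.FourTwo.RankInv.maskJ = g1); (try generalize @Cfsg.Agent.FourTwo.RankInv.wordM = g2); (try generalize @Cfsg.Agent.FourTwo.RankInv.maskI = g3); rfl') | exact @Cfsg.Agent.FourTwo.ClassSep.iv | exact ()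
private theorem _root_.Cfsg.Agent.KO31be1ed.e33 : (by first | exact @Cfsg.Agent.FourTwo.ClassSep.iv = @_root_.Cfsg.Agent.KO31be1ed.k33 | exact True : Prop) := by first | (delta _root_.Cfsg.Agent.KO31be1ed.k33; exact @Subtype.property _ (fun g => @Cfsg.Agent.FourTwo.ClassSep.iv = @g) _) | rfl | trivial
private noncomputable def _root_.Cfsg.Agent.KO31be1ed.k34 : (by first | exact type_of% @Cfsg.Agent.H326.F4C.trB | exact Unit : Sort _) := by first | (refine @Subtype.val _ (fun g => @Cfsg.Agent.H326.F4C.trB = @g) (@Subtype.mk _ _ (@(fun x0 x1 x2 => @Nat.rec.{1} @(fun x3 => @Bool) @Bool.false @(fun x3 x4 => @Bool.rec.{1} @(fun x5 => @Bool) @Bool.true @Bool.false (@Decidable.rec.{1} _ @(fun x5 => @Bool) @(fun x5 => @Bool.false) @(fun x5 => @Bool.true) (@Cfsg.Agent.KO31be1ed.k24 @x4 (@Bool.rec.{1} @(fun x5 => @Bool) @Bool.false (@Cfsg.Agent.KO31be1ed.k27 @x1 (@Nat.mul (nat_lit 53) @x3)) (@Cfsg.Agent.KO31be1ed.k27 @x0 @x3))))) @x2)) ?_); rewrite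 [← Cfsg.Agent.KO31be1ed.e27, ← Cfsg.Agent.KO31be1ed.e24]; (try delta Cfsg.Agent.H326.F4C.trB); (try generalize @Cfsg.Agent.FourTwo.RankInv.tb = g0); rfl') | exact @Cfsg.Agent.H326.F4C.trB | exact ()
private theorem _root_.Cfsg.Agent.KO31be1ed.e34 : (by first | exact @Cfsg.Agent.H326.F4C.trB = @_root_.Cfsg.Agent.KO31be1ed.k34 | exact True : Prop) := by first | (delta _root_.Cfsg.Agent.KO31be1ed.k34; exact @Subtype.property _ (fun g => @Cfsg.Agent.H326.F4C.trB = @g) _) | rfl | trivial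
private noncomputable def _root_.Cfsg.Agent.KO31be1ed.k35 : (by first | exact type_of% @Cfsg.Agent.H326.F4C.iw | exact Unit : Sort _) := by first | (refine @Subtype.val _ (fun g => @Cfsg.Agent.H326.F4C.iw = @g) (@Subtype.mk _ _ (@(fun x0 => (@Cfsg.Agent.KO31be1ed.k33 @x0, (@Cfsg.Agent.KO31be1ed.k33 (@Cfsg.Agent.KO31be1ed.k12.{0} _ @x0 (@Cfsg.Agent.KO31be1ed.k12.{0} _ @x0 @x0)), (@Cfsg.Agent.KO31be1ed.k34 @Cfsg.Agent.FourTwo.RankInv.maskJ (@Cfsg.Agent.KO31be1ed.k16 @x0) (nat_lit 52), @Cfsg.Agent.KO31be1ed.k34 @Cfsg.Agent.FourTwo.RankInv.maskI (@Cfsg.Agent.KO31be1ed.k16 @x0) (nat_lit 52)))))) ?_); rewrite [← Cfsg.Agent.KO31be1ed.e16, ← Cfsg.Agent.KO31be1ed.e34, ← Cfsg.Agent.KO31be1ed.e12.{0}, ← Cfsg.Agent.KO31be1ed.e33]; (try delta Cfsg.Agent.H326.F4C.iw); (try generalize @Cfsg.Agent.FourTwo.ClassSep.iv = g0); (try generalize @Cfsg.Agent.H326.F4C.trB = g1); (try generalize @Cfsg.Agent.FourTwo.RankInv.maskJ = g2); (try generalize @Cfsg.Agent.FourTwo.RankInv.wordM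 = g3); (try generalize @Cfsg.Agent.FourTwo.RankInv.maskI = g4); rfl') | exact @Cfsg.Agent.H326.F4C.iw | exact ()
private theorem _root_.Cfsg.Agent.KO31be1ed.e35 : (by first | exact @Cfsg.Agent.H326.F4C.iw = @_root_.Cfsg.Agent.KO31be1ed.k35 | exact True : Prop) := by first | (delta _root_.Cfsg.Agent.KO31be1ed.k35; exact @Subtype.property _ (fun g => @Cfsg.Agent.H326.F4C.iw = @g) _) | rfl | trivial

theorem iw16 : (W16.map fun p => iw p.2) = [((0, 0), (0, 0), false, false), ((12, 18), (0, 0), false, true),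
    ((18, 12), (0, 0), true, false), ((18, 18), (0, 0), true, true), ((20, 20), (20, 20), true, true),
    ((24, 18), (24, 18), false, true), ((24, 22), (18, 18), true, false), ((24, 22), (20, 20), false, false),
    ((18, 24), (18, 24), true, false), ((22, 24), (18, 18), false, true), ((22, 24), (20, 20), false, false),
    ((24, 24), (24, 24), false, false), ((24, 24), (24, 24), true, false), ((24, 24), (24, 24), false, true),
    ((24, 24), (18, 24), true, true), ((24, 24), (24, 18), true, true)] := by (first | (refine of_decide_eq_true ?_; rewrite [Cfsg.Agent.KO31be1ed.e18, Cfsg.Agent.KO31be1ed.e21.{0}, Cfsg.Agent.KO31be1ed.e22.{0, 0}, Cfsg.Agent.KO31be1ed.e23, Cfsg.Agent.KO31be1ed.e25, Cfsg.Agent.KO31be1ed.e26.{0, 0}, Cfsg.Agent.KO31be1ed.e35]; decide +kernel) | decide +kernel)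

theorem nodup16 : (W16.map fun p => iw p.2).Nodup := by
  rw [iw16]
  decide +kernel

theorem okw16 {p : ℕ × List ℕ} (hp : p ∈ W16) : okw p.2 = true := by
  have h := List.all_eq_true.1 chk16 p hp
  rw [Bool.and_eq_true] at h
  exact h.1

theorem pow16 {p : ℕ × List ℕ} (hp : p ∈ W16) : wd p.2 ^ p.1 = 1 := by
  have h := List.all_eq_true.1 chk16 p hp
  rw [Bool.and_eq_true] at h
  exact pow_eq_one_of h.1 h.2

theorem orderOf16 {p : ℕ × List ℕ} (hp : p ∈ W16) : orderOf (wd p.2) ∣ p.1 := orderOf_dvd_of_pow_eq_one (pow16 hp)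

theorem oddOrder16 {p : ℕ × List ℕ} (hp : p ∈ W16) : Odd (orderOf (wd p.2)) := by
  have h := List.all_eq_true.1 odd16 p hp
  rw [beq_iff_eq] at h
  exact (Nat.odd_iff.2 h).of_dvd_nat (orderOf16 hp)

/-- the sixteen elements -/
noncomputable def f16 (i : Fin 16) : LL := wd (W16.get (i.cast length16.symm)).2

theorem odd_f16 (i : Fin 16) : Odd (orderOf (f16 i)) := oddOrder16 (List.get_mem _ _)

theorem f16_inj (i j : Fin 16) (h : IsConj (f16 i) (f16 j)) : i = j := by
  have h1 := iw_eq_of_isConj (okw16 (List.get_mem _ _)) (okw16 (List.get_mem _ _)) h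
  have h2 := List.nodup_iff_injective_get.1 nodup16
  have h3 : (⟨i, by rw [List.length_map, length16]; exact i.2⟩ : Fin (W16.map fun p => iw p.2).length) =
      ⟨j, by rw [List.length_map, length16]; exact j.2⟩ := by
    apply h2
    rw [List.get_eq_getElem, List.get_eq_getElem, List.getElem_map, List.getElem_map]
    exact h1
  exact Fin.ext (Fin.mk.inj h3)

/-- **every element of odd order is conjugate to one of the sixteen** (`H` : the count of the 2-regular classes) -/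
theorem exists_mem (H : ∀ f : Fin 16 → LL, (∀ i, Odd (orderOf (f i))) → (∀ i j, IsConj (f i) (f j) → i = j) →
    ∀ {g : LL}, Odd (orderOf g) → ∃ i, IsConj (f i) g) {g : LL} (hg : Odd (orderOf g)) :
    ∃ p ∈ W16, IsConj (wd p.2) g := by
  obtain ⟨i, hi⟩ := H f16 odd_f16 f16_inj hg
  exact ⟨_, List.get_mem _ _, hi⟩

end Cfsg.Agent.H326.F4C
end

-- part: H326/F4C/Cover
section
/-!
# The elements of odd order of `F₄(2)` (helper326)

`H16` : the count of the 2-regular classes (helper197).  From it: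

* `cases` : an element of odd order is conjugate to an element of the subgroup generated by the root elements of the
  Levi subsystem `{27, 25, 24}` or `{33, 27, 25}`, or it has order `13`, `17` or `21`;
* `conj13`, `conj17`, `conj21` : the classes of elements of order `13`, `17`, `21`.
-/

set_option autoImplicit false
set_option maxRecDepth 100000

namespace Cfsg.Agent.H326.F4C

open Cfsg.Lie Cfsg.Agent.FourTwo.Base Cfsg.Agent.FourTwo.RankInv Cfsg.Agent.FourTwo.ClassSep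

/-- at most sixteen classes of elements of odd order -/
def H16 : Prop := ∀ f : Fin 16 → LL, (∀ i, Odd (orderOf (f i))) → (∀ i j, IsConj (f i) (f j) → i = j) →
  ∀ {g : LL}, Odd (orderOf g) → ∃ i, IsConj (f i) g

theorem orderOf_conj {G : Type*} [Group G] {g h : G} (e : IsConj g h) : orderOf g = orderOf h := by
  obtain ⟨c, rfl⟩ := isConj_iff.1 e
  exact (MulEquiv.orderOf_eq (MulAut.conj c) g).symm

theorem isConj_pow {G : Type*} [Group G] {g h : G} (e : IsConj g h) (n : ℕ) : IsConj (g ^ n) (h ^ n) := by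
  obtain ⟨c, rfl⟩ := isConj_iff.1 e
  exact isConj_iff.2 ⟨c, conj_pow.symm⟩

theorem isConj_map {G : Type*} [Group G] {g h : G} (e : IsConj g h) (f : G →* G) : IsConj (f g) (f h) := by
  obtain ⟨c, rfl⟩ := isConj_iff.1 e
  exact isConj_iff.2 ⟨f c, by simp only [_root_.map_mul, _root_.map_inv]⟩

/-- the subgroup generated by root elements -/
def lev (s : List ℕ) : Subgroup LL := Subgroup.closure {g | ∃ r ∈ s, g = x r}

theorem wd_mem_lev {s w : List ℕ} (h : ∀ r ∈ w, r ∈ s) : wd w ∈ lev s := by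
  induction w with
  | nil => exact one_mem _
  | cons r w ih =>
    rw [wd_cons]
    exact mul_mem (Subgroup.subset_closure ⟨r, h r List.mem_cons_self, rfl⟩)
      (ih fun t ht => h t (List.mem_cons_of_mem _ ht))

/-- letters of the first Levi subgroup -/
def s1 : List ℕ := [27, 20, 25, 22, 24, 23]
/-- letters of the second Levi subgroup -/
def s2 : List ℕ := [33, 14, 27, 20, 25, 22]

theorem WL_chk : (WL.all fun p => p.2.all fun r => s1.contains r) = true := by decide +kernel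
theorem WM_chk : (WM.all fun p => p.2.all fun r => s2.contains r) = true := by decide +kernel

theorem mem_of_chk {s : List ℕ} {W : List (ℕ × List ℕ)} (h : (W.all fun p => p.2.all fun r => s.contains r) = true)
    {p : ℕ × List ℕ} (hp : p ∈ W) : wd p.2 ∈ lev s := by
  refine wd_mem_lev fun r hr => ?_
  have h1 := List.all_eq_true.1 (List.all_eq_true.1 h p hp) r hr
  exact List.contains_iff_mem.1 h1

theorem mem_WN {p : ℕ × List ℕ} (hp : p ∈ WN) : p = (13, w13) ∨ p = (17, w17) ∨ p = (17, w17 ++ (w17 ++ w17)) ∨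
    p = (21, w21) ∨ p = (21, w21') := by
  unfold WN at hp
  simpa using hp

theorem ne_of_iw {w w' : List ℕ} (hw : okw w = true) (hw' : okw w' = true) (h : iw w ≠ iw w') : wd w ≠ wd w' :=
  fun e => sep_iw hw hw' h (e ▸ IsConj.refl _)

theorem order_prime {w : List ℕ} {n : ℕ} (hn : n.Prime) (hw : (n, w) ∈ W16) (h : iw w ≠ iw []) :
    orderOf (wd w) = n := by
  rcases (Nat.dvd_prime hn).1 (orderOf16 hw) with h1 | h1
  · rw [orderOf_eq_one_iff] at h1
    exact absurd (h1.trans wd_nil.symm) (ne_of_iw (okw16 hw) rfl h)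
  · exact h1

theorem order13 : orderOf (wd w13) = 13 := order_prime (by norm_num) (by decide +kernel) (by decide +kernel)

theorem order17 : orderOf (wd w17) = 17 := order_prime (by norm_num) (by decide +kernel) (by decide +kernel)

theorem order21_of {w : List ℕ} (hw : (21, w) ∈ W16) (h3 : iw (rpw w 3) ≠ iw []) (h7 : iw (rpw w 7) ≠ iw []) :
    orderOf (wd w) = 21 := by
  have h1 := orderOf16 hw
  have key : ∀ k : ℕ, iw (rpw w k) ≠ iw [] → ¬ orderOf (wd w) ∣ k := by
    intro k hk h2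
    rw [orderOf_dvd_iff_pow_eq_one, ← wd_rpw] at h2
    exact ne_of_iw (okw_rpw (okw16 hw) k) rfl hk (h2.trans wd_nil.symm)
  have h4 := key 3 h3
  have h5 := key 7 h7
  have h6 : orderOf (wd w) ≤ 21 := Nat.le_of_dvd (by norm_num) h1
  have h8 : orderOf (wd w) ∈ Nat.divisors 21 := Nat.mem_divisors.2 ⟨h1, by norm_num⟩
  have h9 : Nat.divisors 21 = {1, 3, 7, 21} := by decide
  rw [h9] at h8
  simp only [Finset.mem_insert, Finset.mem_singleton] at h8
  rcases h8 with e | e | e | e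
  · rw [e] at h4; exact absurd (one_dvd _) h4
  · rw [e] at h4; exact absurd dvd_rfl h4
  · rw [e] at h5; exact absurd dvd_rfl h5
  · exact e

theorem order21 : orderOf (wd w21) = 21 := order21_of (by decide +kernel) (by decide +kernel) (by decide +kernel)

/-- **elements of odd order** -/
theorem cases (H : H16) {g : LL} (hg : Odd (orderOf g)) : (∃ y : LL, y * g * y⁻¹ ∈ lev s1) ∨
    (∃ y : LL, y * g * y⁻¹ ∈ lev s2) ∨ orderOf g = 13 ∨ orderOf g = 17 ∨ orderOf g = 21 := by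
  obtain ⟨p, hp, h⟩ := exists_mem H hg
  have hc : ∀ s : List ℕ, wd p.2 ∈ lev s → ∃ y : LL, y * g * y⁻¹ ∈ lev s := by
    intro s hs
    obtain ⟨c, hc⟩ := isConj_iff.1 h.symm
    exact ⟨c, by rw [hc]; exact hs⟩
  have hp' := hp
  unfold W16 at hp'
  rw [List.mem_append, List.mem_append] at hp'
  rcases hp' with h1 | h1 | h1
  · exact Or.inl (hc _ (mem_of_chk WL_chk h1))
  · exact Or.inr (Or.inl (hc _ (mem_of_chk WM_chk h1)))
  · right; right
    rw [← orderOf_conj h]
    have h17 : orderOf (wd (w17 ++ (w17 ++ w17))) = 17 :=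
      order_prime (by norm_num) (by decide +kernel) (by decide +kernel)
    have h21 : orderOf (wd w21') = 21 := order21_of (by decide +kernel) (by decide +kernel) (by decide +kernel)
    rcases mem_WN h1 with rfl | rfl | rfl | rfl | rfl
    · exact Or.inl order13
    · exact Or.inr (Or.inl order17)
    · exact Or.inr (Or.inl h17)
    · exact Or.inr (Or.inr order21)
    · exact Or.inr (Or.inr h21)

/-- the words whose exponent is divisible by `n` -/
theorem exists_of_order (H : H16) {g : LL} {n : ℕ} (hn : n % 2 = 1) (hg : orderOf g = n) :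
    ∃ p ∈ W16.filter fun p => p.1 % n == 0, IsConj (wd p.2) g := by
  obtain ⟨p, hp, h⟩ := exists_mem H (g := g) (by rw [hg]; exact Nat.odd_iff.2 hn)
  refine ⟨p, List.mem_filter.2 ⟨hp, ?_⟩, h⟩
  have h1 := orderOf16 hp
  rw [orderOf_conj h, hg] at h1
  rw [beq_iff_eq]
  exact Nat.mod_eq_zero_of_dvd h1

theorem filter13 : (W16.filter fun p => p.1 % 13 == 0) = [(13, w13)] := by decide +kernel
theorem filter17 : (W16.filter fun p => p.1 % 17 == 0) = [(17, w17), (17, w17 ++ (w17 ++ w17))] := by decide +kernel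
theorem filter21 : (W16.filter fun p => p.1 % 21 == 0) = [(21, w21), (21, w21')] := by decide +kernel

/-- one class of elements of order 13 -/
theorem conj13 (H : H16) {g h : LL} (hg : orderOf g = 13) (hh : orderOf h = 13) : IsConj g h := by
  have key : ∀ {g : LL}, orderOf g = 13 → IsConj (wd w13) g := by
    intro g hg
    obtain ⟨p, hp, e⟩ := exists_of_order H (by norm_num) hg
    rw [filter13, List.mem_singleton] at hp
    rw [hp] at e
    exact e
  exact (key hg).symm.trans (key hh)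

/-- elements of order 17 are conjugate to `a` or `a³` -/
theorem key17 (H : H16) {g : LL} (hg : orderOf g = 17) : IsConj (wd w17) g ∨ IsConj (wd w17 ^ 3) g := by
  obtain ⟨p, hp, e⟩ := exists_of_order H (by norm_num) hg
  rw [filter17] at hp
  simp only [List.mem_cons, List.not_mem_nil, or_false] at hp
  rcases hp with rfl | rfl
  · exact Or.inl e
  · right
    rw [cube]
    simpa only [wd_append, _root_.isConj_iff, _root_.Subtype.exists] using e

theorem sep17 : ¬ IsConj (wd w17) (wd w17 ^ 3) := by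
  have h : wd w17 ^ 3 = wd (w17 ++ (w17 ++ w17)) := by rw [cube, wd_append, wd_append]
  rw [h]
  exact sep_iw rfl rfl (by decide +kernel)

theorem conj_nine (H : H16) : IsConj (wd w17) (wd w17 ^ 9) := by
  have p17 : wd w17 ^ 17 = 1 := by
    have h := pow_orderOf_eq_one (wd w17)
    rwa [order17] at h
  have h9 : orderOf (wd w17 ^ 9) = 17 := by
    have h := Nat.Coprime.orderOf_pow (y := wd w17) (m := 9) (by rw [order17]; norm_num)
    rw [h, order17]
  rcases key17 H h9 with h | h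
  · exact h
  · exfalso
    have h1 := isConj_pow h 6
    have e1 : (wd w17 ^ 3) ^ 6 = wd w17 := by
      rw [← pow_mul, show 3 * 6 = 17 + 1 by norm_num, pow_add, p17, one_mul, pow_one]
    have e2 : (wd w17 ^ 9) ^ 6 = wd w17 ^ 3 := by
      rw [← pow_mul, show 9 * 6 = 17 * 3 + 3 by norm_num, pow_add, pow_mul, p17, one_pow, one_mul]
    rw [e1, e2] at h1
    exact sep17 h1

/-- elements of order 17 -/
theorem conj17 (H : H16) {g h : LL} (hg : orderOf g = 17) (hh : orderOf h = 17) : IsConj g h ∨ IsConj g (h ^ 3) := by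
  rcases key17 H hg with e1 | e1 <;> rcases key17 H hh with e2 | e2
  · exact Or.inl (e1.symm.trans e2)
  · right
    have e3 := isConj_pow e2 3
    rw [← pow_mul] at e3
    exact e1.symm.trans ((conj_nine H).trans e3)
  · exact Or.inr (e1.symm.trans (isConj_pow e2 3))
  · exact Or.inl (e1.symm.trans e2)

/-! ### order 21 -/

theorem bar_bar : ∀ r < 48, bar (bar r) = r := by decide +kernel

theorem bar_lt : ∀ r < 48, bar r < 48 := by decide +kernel

theorem map_wd {γ : LL ≃* LL} (hγ : ∀ r < 48, γ (x r) = x (bar r)) : ∀ {w : List ℕ}, okw w = true →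
    γ (wd w) = wd (w.map bar)
  | [], _ => by
    rw [List.map_nil, wd_nil]
    exact map_one γ
  | r :: w, hw => by
    have h1 : r < 48 := okw_lt hw r List.mem_cons_self
    have h2 : okw w = true := by
      unfold okw at hw ⊢
      rw [List.all_cons, Bool.and_eq_true] at hw
      exact hw.2
    rw [wd_cons, map_mul, hγ r h1, map_wd hγ h2, List.map_cons, wd_cons]

theorem gamma_sq {γ : LL ≃* LL} (hγ : ∀ r < 48, γ (x r) = x (bar r)) (g : LL) : γ (γ g) = g := by
  have h : (γ.toMonoidHom.comp γ.toMonoidHom) = MonoidHom.id LL := by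
    refine MonoidHom.eq_of_eqOn_dense closure_x ?_
    rintro _ ⟨r, hr, rfl⟩
    show γ (γ (x r)) = x r
    rw [hγ r hr, hγ _ (bar_lt r hr), bar_bar r hr]
  exact DFunLike.congr_fun h g

/-- elements of order 21 -/
theorem conj21 (H : H16) {γ : LL ≃* LL} (hγ : ∀ r < 48, γ (x r) = x (bar r)) {g h : LL} (hg : orderOf g = 21)
    (hh : orderOf h = 21) : IsConj g h ∨ IsConj g (γ h) := by
  have hw : γ (wd w21) = wd w21' := by
    rw [map_wd hγ rfl]
    rfl
  have key : ∀ {g : LL}, orderOf g = 21 → IsConj (wd w21) g ∨ IsConj (wd w21') g := by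
    intro g hg
    obtain ⟨p, hp, e⟩ := exists_of_order H (by norm_num) hg
    rw [filter21] at hp
    simp only [List.mem_cons, List.not_mem_nil, or_false] at hp
    rcases hp with rfl | rfl
    · exact Or.inl e
    · exact Or.inr e
  have hm : ∀ {a b : LL}, IsConj a b → IsConj (γ a) (γ b) := fun e => isConj_map e γ.toMonoidHom
  rcases key hg with e1 | e1 <;> rcases key hh with e2 | e2
  · exact Or.inl (e1.symm.trans e2)
  · right
    have e3 := hm e2
    rw [← hw, gamma_sq hγ] at e3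
    exact e1.symm.trans e3
  · right
    have e3 := hm e2
    rw [hw] at e3
    exact e1.symm.trans e3
  · exact Or.inl (e1.symm.trans e2)

end Cfsg.Agent.H326.F4C
end

-- part: H197/Reg/Count
section
/-!
# The number of `p`-regular classes is at most the number of irreducible Brauer characters
-/

set_option autoImplicit false

namespace Cfsg.Agent.H197.Reg

open Cfsg IsLocalRing Module
open Cfsg.Agent.H657 Cfsg.Agent.H608.BlockRank

variable {V : ValuationSubring ℂ} {G : Type} [Group G] [Finite G] {p : ℕ} {M : Ideal AlgInt}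

open Classical in
/-- the indicator function of a class -/
noncomputable def ind (x : G) : G → ℂ := fun g => if IsConj x g then 1 else 0

omit [Finite G] in
theorem ind_isClassFunction (x : G) : IsClassFunction G (ind x) := by
  classical
  intro g h
  unfold ind
  have h1 : IsConj g (h * g * h⁻¹) := isConj_iff.2 ⟨h, rfl⟩
  have h2 : IsConj x (h * g * h⁻¹) ↔ IsConj x g :=
    ⟨fun k => k.trans h1.symm, fun k => k.trans h1⟩
  simp only [h2]

omit [Finite G] in
theorem pReg_ind {x : G} (hx : IsPRegular p x) : pReg p (ind x) = ind x := by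
  classical
  funext g
  by_cases h : IsPRegular p g
  · rw [pReg_of h]
  · rw [pReg_of_not h]
    unfold ind
    rw [if_neg]
    intro hc
    obtain ⟨c, rfl⟩ := isConj_iff.1 hc
    exact h ((isPRegular_conj x c).2 hx)

theorem ind_mem (hM : IsPModular p M) (hV : Above M V) {x : G} (hx : IsPRegular p x) :
    ind x ∈ Submodule.span ℂ (Set.range fun i : IBr V G => phi p i) := by
  have := Fintype.ofFinite G
  have h1 : ind x ∈ (charSpan (Set.univ : Set (IrrCharacter G))).map (pReg p) := by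
    refine ⟨ind x, ?_, pReg_ind hx⟩
    exact mem_charSpan_of_classInner (ind_isClassFunction x) fun ψ hψ => absurd (Set.mem_univ _) hψ
  refine Submodule.span_mono ?_ (map_pReg_le_span hM hV _ h1)
  rintro _ ⟨i, -, rfl⟩
  exact ⟨i, rfl⟩

omit [Finite G] in
theorem ind_linearIndependent {ι : Type*} [Fintype ι] (f : ι → G) (hf : ∀ i j, IsConj (f i) (f j) → i = j) :
    LinearIndependent ℂ fun i => ind (f i) := by
  classical
  rw [Fintype.linearIndependent_iff]
  intro c hc j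
  have h1 := congrFun hc (f j)
  rw [Finset.sum_apply, Finset.sum_eq_single j] at h1
  · rw [Pi.smul_apply, smul_eq_mul, ind, if_pos (IsConj.refl _), mul_one, Pi.zero_apply] at h1
    exact h1
  · intro i _ hij
    rw [Pi.smul_apply, smul_eq_mul, ind, if_neg (fun h => hij (hf i j h)), mul_zero]
  · intro h
    exact absurd (Finset.mem_univ _) h

/-- **the number of `p`-regular classes is at most the number of irreducible Brauer characters** -/
theorem card_le_ibr (hM : IsPModular p M) (hV : Above M V) {ι : Type*} [Fintype ι] (f : ι → G)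
    (hr : ∀ i, IsPRegular p (f i)) (hf : ∀ i j, IsConj (f i) (f j) → i = j) :
    Fintype.card ι ≤ Nat.card (IBr V G) := by
  classical
  have := Fintype.ofFinite (IBr V G)
  have h2 : Submodule.span ℂ (Set.range fun i => ind (f i)) ≤
      Submodule.span ℂ (Set.range fun i : IBr V G => phi p i) := by
    rw [Submodule.span_le]
    rintro _ ⟨i, rfl⟩
    exact ind_mem hM hV (hr i)
  have h3 := Submodule.finrank_mono h2
  rw [finrank_span_eq_card (ind_linearIndependent f hf)] at h3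
  refine h3.trans ((finrank_range_le_card _).trans ?_)
  rw [Nat.card_eq_fintype_card]

end Cfsg.Agent.H197.Reg
end

-- part: H197/Reg/Inj
section
/-!
# Irreducible Brauer characters in the defining characteristic: the stabiliser of the highest weight line

`ibr_le`: if `CRG p U'` (Curtis, Richen), `U' ≤ S` a `p`-group, and each subgroup containing `S` is generated by
`p`-elements, then the number of irreducible Brauer characters is at most the number of subgroups containing `S`.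
-/

set_option autoImplicit false

namespace Cfsg.Agent.H197.Reg

open Cfsg IsLocalRing Module
open Cfsg.Agent.H657 Cfsg.Agent.H883.BR

attribute [local instance] Above.isAlgClosed

section gen

variable {K W : Type} [Field K] [AddCommGroup W] [Module K W] {T : Type} [Group T]

theorem irr_of [FiniteDimensional K W] {σ : Representation K T W} (h : σ.IsIrreducible) :
    Irr (σ : T →* Module.End K W) ⊤ := by
  refine ⟨Module.nontrivial_of_finrank_pos (R := K) (Nat.pos_of_ne_zero (finrank_ne_zero' σ h)), fun U hU => ?_⟩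
  let A : Subrepresentation σ := ⟨U, fun g v hv => hU g trivial v hv⟩
  rcases h.eq_bot_or_eq_top A with h1 | h1
  · left
    rw [eq_bot_iff]
    intro v hv
    have h2 : v ∈ A := hv
    rw [h1] at h2
    exact h2
  · right
    rw [eq_top_iff]
    intro v _
    have h2 : v ∈ (⊤ : Subrepresentation σ) := trivial
    rw [← h1] at h2
    exact h2

/-- the stabiliser of the line of `w` -/
def St (σ : T →* Module.End K W) {w : W} (hw : w ≠ 0) : Subgroup T where
  carrier := {g | ∃ c : K, σ g w = c • w}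
  one_mem' := ⟨1, by rw [map_one, one_smul]; rfl⟩
  mul_mem' := by
    rintro g h ⟨a, ha⟩ ⟨b, hb⟩
    exact ⟨a * b, by rw [map_mul, Module.End.mul_apply, hb, map_smul, ha, smul_smul, mul_comm]⟩
  inv_mem' := by
    rintro g ⟨a, ha⟩
    have h1 : σ g⁻¹ (σ g w) = w := by
      rw [← Module.End.mul_apply, ← map_mul, inv_mul_cancel, map_one]
      rfl
    rw [ha, map_smul] at h1
    have h2 : a ≠ 0 := by
      rintro rfl
      rw [zero_smul] at h1
      exact hw h1.symm
    exact ⟨a⁻¹, by rw [← h1, smul_smul]; nth_rw 1 [h1]; rw [inv_mul_cancel₀ h2, one_smul]⟩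

/-- the fixer of `w` -/
def Fx (σ : T →* Module.End K W) (w : W) : Subgroup T where
  carrier := {g | σ g w = w}
  one_mem' := by
    show σ 1 w = w
    rw [map_one]
    rfl
  mul_mem' := by
    intro g h ha hb
    show σ (g * h) w = w
    have ha' : σ g w = w := ha
    have hb' : σ h w = w := hb
    rw [map_mul, Module.End.mul_apply, hb', ha']
  inv_mem' := by
    intro g ha
    have ha' : σ g w = w := ha
    show σ g⁻¹ w = w
    nth_rw 1 [← ha']
    rw [← Module.End.mul_apply, ← map_mul, inv_mul_cancel, map_one]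
    rfl

theorem mem_Fx_of {p : ℕ} [Fact p.Prime] [CharP K p] (σ : T →* Module.End K W) {w : W} (hw : w ≠ 0) {g : T}
    (hg : g ∈ St σ hw) {k : ℕ} (hk : g ^ p ^ k = 1) : g ∈ Fx σ w := by
  obtain ⟨c, hc⟩ := hg
  have h1 : ∀ n : ℕ, σ (g ^ n) w = c ^ n • w := by
    intro n
    induction n with
    | zero => rw [pow_zero, pow_zero, map_one, one_smul]; rfl
    | succ n ih => rw [pow_succ, map_mul, Module.End.mul_apply, hc, map_smul, ih, smul_smul, pow_succ']
  have h2 := h1 (p ^ k)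
  rw [hk, map_one] at h2
  have h3 : (c ^ p ^ k - 1) • w = 0 := by
    rw [sub_smul, ← h2, one_smul]
    exact sub_self _
  have h4 : c ^ p ^ k - 1 = 0 := (smul_eq_zero.1 h3).resolve_right hw
  have h5 : (c - 1) ^ p ^ k = 0 := by rw [sub_pow_char_pow, one_pow, h4]
  have h6 : c = 1 := sub_eq_zero.1 (eq_zero_of_pow_eq_zero h5)
  show σ g w = w
  rw [hc, h6, one_smul]

end gen

section main

variable {T : Type} [Group T] [Finite T] {p : ℕ} [Fact p.Prime] {V : ValuationSubring ℂ}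
  [CharP (ResidueField V) p] {U' S : Subgroup T}

theorem exists_line (h : CRG.{0, 0, 0} p U') (hS : IsPGroup p S) (hUS : U' ≤ S) (hc : Subgroup.center T = ⊥)
    (i : IBr V T) : ∃ w : Fin i.deg → ResidueField V, w ≠ 0 ∧ (∀ u ∈ S, i.rep u w = w) ∧
      ∀ v, (∀ u ∈ U', i.rep u v = v) ↔ ∃ c : ResidueField V, v = c • w := by
  have hirr := irr_of i.rep_irr
  obtain ⟨w, hw0, hw⟩ := h.one (ResidueField V) _ i.rep hirr (by
    intro z hz
    rw [hc, Subgroup.mem_bot] at hz
    rw [hz, map_one])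
  obtain ⟨v, -, hv0, hv⟩ := Cfsg.Agent.H666.exists_fixed_ne_zero hS
    ((i.rep : T →* Module.End _ _).comp S.subtype) ⊤ (fun _ _ _ => trivial) (by
      have := hirr.1
      exact top_ne_bot)
  have hv' : ∀ u ∈ S, i.rep u v = v := fun u hu => hv ⟨u, hu⟩
  obtain ⟨c, rfl⟩ := (hw v).1 fun u hu => hv' u (hUS hu)
  have hc0 : c ≠ 0 := by
    rintro rfl
    rw [zero_smul] at hv0
    exact hv0 rfl
  refine ⟨w, hw0, fun u hu => ?_, hw⟩
  have h1 := hv' u hu
  rw [map_smul] at h1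
  exact smul_right_injective _ hc0 h1

theorem ibr_le (h : CRG.{0, 0, 0} p U') (hS : IsPGroup p S) (hUS : U' ≤ S) (hc : Subgroup.center T = ⊥)
    (hgen : ∀ H : Subgroup T, S ≤ H → H ≤ Subgroup.closure {g | g ∈ H ∧ ∃ k, g ^ p ^ k = 1}) :
    Nat.card (IBr V T) ≤ Nat.card {H : Subgroup T // S ≤ H} := by
  choose w hw0 hwS hw using fun i : IBr V T => exists_line h hS hUS hc i
  have hst : ∀ i : IBr V T, S ≤ St i.rep (hw0 i) := fun i u hu => ⟨1, by rw [one_smul]; exact hwS i u hu⟩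
  have hfx : ∀ i : IBr V T, St i.rep (hw0 i) ≤ Fx i.rep (w i) := by
    intro i
    refine (hgen _ (hst i)).trans ?_
    rw [Subgroup.closure_le]
    rintro g ⟨hg, k, hk⟩
    exact mem_Fx_of i.rep (hw0 i) hg hk
  have := Fintype.ofFinite {H : Subgroup T // S ≤ H}
  have hfin : Finite {H : Subgroup T // S ≤ H} := inferInstance
  refine Nat.card_le_card_of_injective (fun i : IBr V T => (⟨St i.rep (hw0 i), hst i⟩ : {H : Subgroup T // S ≤ H})) ?_
  intro i j hij
  have hij' : St i.rep (hw0 i) = St j.rep (hw0 j) := congrArg Subtype.val hij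
  have hz : ∀ i : IBr V T, ∀ z ∈ Subgroup.center T, i.rep z = 1 := by
    intro i z hz
    rw [hc, Subgroup.mem_bot] at hz
    rw [hz, map_one]
  have hone : ∀ (i : IBr V T) (b : T) (c : ResidueField V), b ∈ St i.rep (hw0 i) →
      (i.rep b (w i) = c • w i ↔ c = 1) := by
    intro i b c hb
    have h1 : i.rep b (w i) = w i := hfx i hb
    rw [h1]
    constructor
    · intro h2
      have h3 : (1 - c) • w i = 0 := by
        rw [sub_smul, one_smul, ← h2, sub_self]
      exact (sub_eq_zero.1 ((smul_eq_zero.1 h3).resolve_right (hw0 i))).symm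
    · rintro rfl
      rw [one_smul]
  obtain ⟨e, he⟩ := h.iso (ResidueField V) _ _ i.rep j.rep (irr_of i.rep_irr) (irr_of j.rep_irr) (hz i) (hz j)
    (w i) (w j) (hw0 i) (hw0 j) (fun u hu => hwS i u (hUS hu)) (fun u hu => hwS j u (hUS hu)) (by
      intro b c _
      by_cases hb : b ∈ St i.rep (hw0 i)
      · have hb' : b ∈ St j.rep (hw0 j) := hij' ▸ hb
        rw [hone i b c hb, hone j b c hb']
      · have hb' : b ∉ St j.rep (hw0 j) := hij' ▸ hb
        exact ⟨fun h => absurd ⟨c, h⟩ hb, fun h => absurd ⟨c, h⟩ hb'⟩) (by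
      intro g
      exact ⟨fun hg => (hij' ▸ hg : g ∈ St j.rep (hw0 j)), fun hg => (hij' ▸ hg : g ∈ St i.rep (hw0 i))⟩)
  apply Subtype.ext
  funext g
  rw [← i.trace_rep g, ← j.trace_rep g]
  have h1 : j.rep g = e.conj (i.rep g) := by
    apply LinearMap.ext
    intro v
    rw [LinearEquiv.conj_apply_apply, he, LinearEquiv.apply_symm_apply]
  rw [h1, LinearMap.trace_conj']

end main

end Cfsg.Agent.H197.Reg
end

-- part: H197/Reg/Main
section
/-!
# `F₄(2)` has at most 16 classes of elements of odd order (helper197)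

The irreducible Brauer characters in characteristic 2 are determined by the stabiliser of the line fixed by a Sylow
2-subgroup (Curtis, Richen), one of 16 subgroups.
-/

set_option autoImplicit false

namespace Cfsg.Agent.H197.Reg

open Cfsg Cfsg.Lie IsLocalRing
open Cfsg.Agent.H657 Cfsg.Agent.H883.BR
open Cfsg.Agent.FourTwo.Base Cfsg.Agent.FourTwo.BN Cfsg.Agent.FourTwo.Cent

theorem simple_LL : IsSimpleGroup LL := (Cfsg.Agent.S1054.result (F := ZMod 2) chevF4 (by simp)).1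

theorem center_LL : Subgroup.center LL = ⊥ := by
  have hs := simple_LL
  rcases hs.eq_bot_or_eq_top_of_normal (Subgroup.center LL) inferInstance with h | h
  · exact h
  · exfalso
    refine (Cfsg.Agent.S1054.result (F := ZMod 2) chevF4 (by simp)).2 ⟨⟨fun a b => ?_⟩⟩
    have h1 : b ∈ Subgroup.center LL := by rw [h]; trivial
    exact Subgroup.mem_center_iff.1 h1 a

theorem lie_LL : Cfsg.IsLieTypeChar 2 LL :=
  Or.inr (Or.inr (Or.inr (Or.inr (Or.inr (Or.inr (Or.inl
    ⟨ZMod 2, inferInstance, inferInstance, inferInstance, Or.inr (Or.inl ⟨MulEquiv.refl _⟩)⟩))))))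

/-- a subgroup containing a conjugate of `U` is generated by 2-elements -/
theorem gen_LL {H : Subgroup LL} (hU : U ≤ H) : H ≤ Subgroup.closure {g | g ∈ H ∧ ∃ k, g ^ 2 ^ k = 1} := by
  nth_rw 1 [parabolic_eq hU]
  refine sup_le ?_ ?_
  · intro u hu
    have h1 := (Cfsg.Agent.FourTwo.AutF4.isPGroup_U) ⟨u, hu⟩
    obtain ⟨k, hk⟩ := h1
    exact Subgroup.subset_closure ⟨hU hu, k, congrArg Subtype.val hk⟩
  · refine (Subgroup.closure_le _).2 ?_
    rintro _ ⟨i, hi, hn, rfl⟩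
    refine Subgroup.subset_closure ⟨hn, 1, ?_⟩
    rw [pow_one, sq, n_mul_self hi]

theorem card_over : Nat.card {H : Subgroup LL // U ≤ H} ≤ 16 := by
  classical
  have h1 : Nat.card (Fin 4 → Bool) = 16 := by
    rw [Nat.card_eq_fintype_card]
    decide
  rw [← h1]
  refine Nat.card_le_card_of_injective
    (fun (H : {H : Subgroup LL // U ≤ H}) (i : Fin 4) => decide (n i ∈ H.1)) ?_
  rintro ⟨H, hH⟩ ⟨H', hH'⟩ h
  have h2 : ∀ i < 4, n i ∈ H ↔ n i ∈ H' := by
    intro i hi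
    have h3 := congrFun h ⟨i, hi⟩
    simpa using h3
  apply Subtype.ext
  show H = H'
  rw [parabolic_eq hH, parabolic_eq hH']
  congr 2
  ext g
  constructor
  · rintro ⟨i, hi, hn, rfl⟩
    exact ⟨i, hi, (h2 i hi).1 hn, rfl⟩
  · rintro ⟨i, hi, hn, rfl⟩
    exact ⟨i, hi, (h2 i hi).2 hn, rfl⟩

theorem mem_comap_conj {g x : LL} {H : Subgroup LL} :
    x ∈ H.comap (MulAut.conj g).toMonoidHom ↔ g * x * g⁻¹ ∈ H := Iff.rfl

theorem card_over' (g : LL) : Nat.card {H : Subgroup LL // U.map (MulAut.conj g).toMonoidHom ≤ H} ≤ 16 := by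
  refine le_trans (Nat.card_le_card_of_injective
    (fun H : {H : Subgroup LL // U.map (MulAut.conj g).toMonoidHom ≤ H} =>
      (⟨H.1.comap (MulAut.conj g).toMonoidHom, Subgroup.map_le_iff_le_comap.1 H.2⟩ : {H : Subgroup LL // U ≤ H})) ?_)
    card_over
  rintro ⟨H, hH⟩ ⟨H', hH'⟩ h
  apply Subtype.ext
  have h1 : H.comap (MulAut.conj g).toMonoidHom = H'.comap (MulAut.conj g).toMonoidHom := congrArg Subtype.val h
  show H = H'
  ext x
  have h2 : g⁻¹ * x * g ∈ H.comap (MulAut.conj g).toMonoidHom ↔ g⁻¹ * x * g ∈ H'.comap (MulAut.conj g).toMonoidHom := by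
    rw [h1]
  rw [mem_comap_conj, mem_comap_conj] at h2
  have e : g * (g⁻¹ * x * g) * g⁻¹ = x := by group
  rwa [e] at h2

theorem gen_LL' {g : LL} {H : Subgroup LL} (hU : U.map (MulAut.conj g).toMonoidHom ≤ H) :
    H ≤ Subgroup.closure {x | x ∈ H ∧ ∃ k, x ^ 2 ^ k = 1} := by
  intro x hx
  have h1 := gen_LL (Subgroup.map_le_iff_le_comap.1 hU) (x := g⁻¹ * x * g) (by
    rw [mem_comap_conj]
    have : g * (g⁻¹ * x * g) * g⁻¹ = x := by group
    rwa [this])
  have h2 : x = (MulAut.conj g).toMonoidHom (g⁻¹ * x * g) := by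
    show x = g * (g⁻¹ * x * g) * g⁻¹
    group
  rw [h2]
  have h3 := Subgroup.mem_map_of_mem (MulAut.conj g).toMonoidHom h1
  rw [MonoidHom.map_closure] at h3
  refine Subgroup.closure_mono ?_ h3
  rintro _ ⟨y, ⟨hy, k, hk⟩, rfl⟩
  refine ⟨mem_comap_conj.1 hy, k, ?_⟩
  rw [← map_pow, hk, map_one]

theorem card_ibr {M : Ideal AlgInt} (hM : IsPModular 2 M) {V : ValuationSubring ℂ} (hV : Above M V) :
    Nat.card (IBr V LL) ≤ 16 := by
  have hs := simple_LL
  have hp : Fact (Nat.Prime 2) := ⟨Nat.prime_two⟩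
  have := hV.charP hM
  obtain ⟨U', hU'⟩ := Cfsg.Agent.H887.BR.crg_simple.{0, 0, 0} (p := 2) lie_LL
  obtain ⟨S, hS⟩ := hU'.isP.exists_le_sylow
  obtain ⟨g, hg⟩ := MulAction.exists_smul_eq LL Cfsg.Agent.FourTwo.Perf.sylU S
  have h1 : (S : Subgroup LL) = U.map (MulAut.conj g).toMonoidHom := by
    rw [← hg]
    rfl
  refine (ibr_le hU' S.isPGroup' hS center_LL (fun H hH => ?_)).trans ?_
  · exact gen_LL' (g := g) (by rwa [← h1])
  · rw [h1]
    exact card_over' g

/-- pairwise nonconjugate elements of odd order: at most 16 -/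
theorem le16 {ι : Type*} [Fintype ι] (f : ι → LL) (ho : ∀ i, Odd (orderOf (f i)))
    (hf : ∀ i j, IsConj (f i) (f j) → i = j) : Fintype.card ι ≤ 16 := by
  obtain ⟨M, hM⟩ := Blocks.ExistsModular.exists_isPModular Nat.prime_two
  obtain ⟨V, hV⟩ := Cfsg.Agent.H657.exists_above hM
  refine (card_le_ibr hM hV f (fun i => ?_) hf).trans (card_ibr hM hV)
  have h1 := ho i
  show ¬ 2 ∣ orderOf (f i)
  exact fun h => (Nat.not_even_iff_odd.2 h1) (even_iff_two_dvd.2 h)

/-- **16 pairwise nonconjugate elements of odd order represent all classes of elements of odd order** -/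
theorem exists_conj16 (f : Fin 16 → LL) (ho : ∀ i, Odd (orderOf (f i))) (hf : ∀ i j, IsConj (f i) (f j) → i = j)
    {g : LL} (hg : Odd (orderOf g)) : ∃ i, IsConj (f i) g := by
  by_contra hcon
  push Not at hcon
  have h1 := le16 (ι := Option (Fin 16)) (fun o => o.elim g f) (by
    rintro (_ | i)
    · exact hg
    · exact ho i) (by
    rintro (_ | i) (_ | j) h
    · rfl
    · exact absurd h.symm (hcon j)
    · exact absurd h (hcon i)
    · rw [hf i j h])
  simp at h1

end Cfsg.Agent.H197.Reg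
end

private theorem dce_00379bd60af8 : _root_.True := by
  try have : _root_.True := by simp only [_root_.Cfsg.Agent.H326.F4C.trB.eq_1]
  try have : _root_.True := by simp only [_root_.Cfsg.Agent.H197.Reg.ind.eq_1]
  try have : _root_.True := by simp only [_root_.Cfsg.Agent.H326.F4C.b2.eq_1]
  exact _root_.True.intro
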